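import Groth.Agent.ARLib.Sub
import Groth.Prelude.Def_ARSys

/-! Powers of an ideal acting on subobjects in a linear abelian category. -/

set_option autoImplicit false
set_option linter.style.haveILetI false

universe w v u

open CategoryTheory CategoryTheory.Limits

namespace Groth.Agent.ARLib

variable {C : Type u} [Category.{v} C] [Abelian C] {A : Type w} [CommRing A] [Linear A C]
  {X Y : C}

/-- Multiplication by a scalar on subobjects. -/
noncomputable def act (a : A) (S : Subobject X) : Subobject X := img (a • 𝟙 X) S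

theorem img_act (f : X ⟶ Y) (a : A) (S : Subobject X) : img f (act a S) = act a (img f S) := by
  rw [act, act, img_img, img_img, Linear.smul_comp, Linear.comp_smul, Category.id_comp,
    Category.comp_id]

theorem act_mul (a b : A) (S : Subobject X) : act (a * b) S = act b (act a S) := by
  rw [act, act, act, img_img, Linear.smul_comp, Category.id_comp, smul_smul]

theorem act_comm (a b : A) (S : Subobject X) : act a (act b S) = act b (act a S) := by
  rw [← act_mul, ← act_mul, mul_comm]

theorem act_le (a : A) (S : Subobject X) : act a S ≤ S := by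
  refine imageSubobject_le _ (a • 𝟙 (S : C)) ?_
  simp

theorem act_mono (a : A) {S S' : Subobject X} (h : S ≤ S') : act a S ≤ act a S' := img_mono _ h

theorem act_sup (a : A) (S S' : Subobject X) : act a (S ⊔ S') = act a S ⊔ act a S' := img_sup _ _ _

theorem act_zero (S : Subobject X) : act (0 : A) S = ⊥ := by
  rw [act, zero_smul]; exact img_zero S

theorem act_one (S : Subobject X) : act (1 : A) S = S := by rw [act, one_smul, img_id]

theorem act_add_le (a b : A) (S : Subobject X) : act (a + b) S ≤ act a S ⊔ act b S := by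
  rw [act, add_smul]; exact img_add_le _ _ S

/-- The powers of `J` act on subobjects. -/
class Pow (J : Ideal A) (C : Type u) [Category.{v} C] [Abelian C] [Linear A C] : Prop where
  ex : ∀ (k : ℕ) {X : C} (S : Subobject X),
    ∃ T, IsLeast {T : Subobject X | ∀ a ∈ J ^ k, act a S ≤ T} T

theorem pow_of_fg {J : Ideal A} (hJ : J.FG) : Pow J C := by
  classical
  refine ⟨fun k X S => ?_⟩
  obtain ⟨s, hs⟩ := Ideal.FG.pow (n := k) hJ
  refine ⟨s.sup (fun a => act a S), fun a ha => ?_, fun T hT => ?_⟩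
  · rw [← hs] at ha
    refine Submodule.span_induction (p := fun a _ => act a S ≤ s.sup (fun a => act a S))
      (fun a ha => Finset.le_sup (f := fun a => act a S) ha) ((act_zero S).le.trans bot_le)
      (fun a b _ _ ha hb => (act_add_le a b S).trans (sup_le ha hb))
      (fun r a _ ha => ?_) ha
    rw [smul_eq_mul, mul_comm, act_mul]
    exact (act_le r _).trans ha
  · exact Finset.sup_le fun a ha => hT a (hs ▸ Submodule.subset_span ha)

theorem pow_of_hasCoproducts (J : Ideal A) [HasCoproducts.{w} C] : Pow J C := by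
  refine ⟨fun k X S => ?_⟩
  let d : (∐ fun _ : (J ^ k : Ideal A) => (S : C)) ⟶ X :=
    Sigma.desc fun a : (J ^ k : Ideal A) => S.arrow ≫ ((a : A) • 𝟙 X)
  refine ⟨imageSubobject d, fun a ha => ?_, fun T hT => ?_⟩
  · refine imageSubobject_le _
      (Sigma.ι (fun _ : (J ^ k : Ideal A) => (S : C)) ⟨a, ha⟩ ≫ factorThruImageSubobject d) ?_
    rw [Category.assoc, imageSubobject_arrow_comp]
    exact Sigma.ι_desc _ _
  · have hF : ∀ a : (J ^ k : Ideal A), T.Factors (S.arrow ≫ ((a : A) • 𝟙 X)) := fun a =>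
      (pre_factors_iff _ T _).1
        (Subobject.factors_of_le _ (img_le_iff.1 (hT a a.2)) (Subobject.factors_self S))
    refine imageSubobject_le _ (Sigma.desc fun a => T.factorThru _ (hF a)) ?_
    ext a
    simp [d]

theorem pow_of_fg_or {J : Ideal A} (hJ : J.FG ∨ HasCoproducts.{w} C) : Pow J C := by
  rcases hJ with h | h
  · exact pow_of_fg h
  · haveI := h; exact pow_of_hasCoproducts J

instance [IsNoetherianRing A] (J : Ideal A) : Pow J C := pow_of_fg (IsNoetherian.noetherian J)

section Killed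
variable {J : Ideal A}

theorem homKilled_of_killed {k : ℕ} (h : ARSys.KilledBy (J ^ k) Y) (φ : X ⟶ Y) :
    ARSys.HomKilledBy (J ^ k) φ := fun a ha => by
  rw [← Category.comp_id φ, ← Linear.comp_smul, h a ha, comp_zero]

theorem killed_of_mono {k : ℕ} (f : X ⟶ Y) [Mono f] (h : ARSys.KilledBy (J ^ k) Y) :
    ARSys.KilledBy (J ^ k) X := fun a ha => by
  rw [← cancel_mono f, zero_comp, Linear.smul_comp, Category.id_comp, ← Category.comp_id f,
    ← Linear.comp_smul, h a ha, comp_zero]

theorem killed_of_epi {k : ℕ} (f : X ⟶ Y) [Epi f] (h : ARSys.KilledBy (J ^ k) X) :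
    ARSys.KilledBy (J ^ k) Y := fun a ha => by
  rw [← cancel_epi f, comp_zero, Linear.comp_smul, Category.comp_id, ← Category.id_comp f,
    ← Linear.smul_comp, h a ha, zero_comp]

theorem quot_epi {k : ℕ} {J : Ideal A} {p : X ⟶ Y} (h : ARSys.IsQuot (J ^ k) p) : Epi p :=
  Preadditive.epi_of_cancel_zero p fun g hg =>
    (h.2 _ (p ≫ g) (by rw [hg]; exact fun a _ => smul_zero a)).unique (y₁ := g) rfl
      (by rw [hg, comp_zero])

end Killed

variable (J : Ideal A) [Pow J C]

/-- `J ^ k • S`. -/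
noncomputable def P (k : ℕ) (S : Subobject X) : Subobject X :=
  Classical.choose (Pow.ex (J := J) k S)

variable {J}

theorem P_le_iff {k : ℕ} {S T : Subobject X} : P J k S ≤ T ↔ ∀ a ∈ J ^ k, act a S ≤ T := by
  obtain ⟨h1, h2⟩ := Classical.choose_spec (Pow.ex (J := J) k S)
  exact ⟨fun h a ha => (h1 a ha).trans h, fun h => h2 h⟩

theorem act_le_P {k : ℕ} {a : A} (ha : a ∈ J ^ k) (S : Subobject X) : act a S ≤ P J k S :=
  P_le_iff.1 le_rfl a ha

theorem P_mono {k : ℕ} {S S' : Subobject X} (h : S ≤ S') : P J k S ≤ P J k S' :=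
  P_le_iff.2 fun _ ha => (act_mono _ h).trans (act_le_P ha S')

theorem P_le (k : ℕ) (S : Subobject X) : P J k S ≤ S := P_le_iff.2 fun a _ => act_le a S

theorem P_zero (S : Subobject X) : P J 0 S = S :=
  le_antisymm (P_le 0 S) <| by
    have h := act_le_P (J := J) (k := 0) (a := 1) (by simp) S
    rwa [act_one] at h

theorem P_anti {k l : ℕ} (h : k ≤ l) (S : Subobject X) : P J l S ≤ P J k S :=
  P_le_iff.2 fun _ ha => act_le_P (Ideal.pow_le_pow_right h ha) S

theorem P_bot (k : ℕ) : P J k (⊥ : Subobject X) = ⊥ := le_bot_iff.1 (P_le k ⊥)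

theorem P_sup (k : ℕ) (S S' : Subobject X) : P J k (S ⊔ S') = P J k S ⊔ P J k S' :=
  le_antisymm (P_le_iff.2 fun a ha => (act_sup a S S').le.trans
      (sup_le_sup (act_le_P ha S) (act_le_P ha S')))
    (sup_le (P_mono le_sup_left) (P_mono le_sup_right))

theorem img_P (f : X ⟶ Y) (k : ℕ) (S : Subobject X) : img f (P J k S) = P J k (img f S) := by
  refine le_antisymm (img_le_iff.2 (P_le_iff.2 fun a ha => img_le_iff.1 ?_))
    (P_le_iff.2 fun a ha => ?_)
  · rw [img_act]; exact act_le_P ha _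
  · rw [← img_act]; exact img_mono f (act_le_P ha S)

theorem act_P_le {j : ℕ} {a : A} (ha : a ∈ J ^ j) (k : ℕ) (S : Subobject X) :
    act a (P J k S) ≤ P J (j + k) S := by
  rw [act, img_le_iff, P_le_iff]
  refine fun b hb => img_le_iff.1 ?_
  rw [← act, ← act_mul]
  exact act_le_P (by rw [pow_add, mul_comm b a]; exact Ideal.mul_mem_mul ha hb) S

theorem P_P (j k : ℕ) (S : Subobject X) : P J j (P J k S) = P J (j + k) S := by
  refine le_antisymm (P_le_iff.2 fun a ha => act_P_le ha k S) (P_le_iff.2 fun c hc => ?_)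
  rw [pow_add] at hc
  refine Submodule.mul_induction_on (C := fun c => act c S ≤ P J j (P J k S)) hc
    (fun a ha b hb => ?_) (fun a b ha hb => (act_add_le a b S).trans (sup_le ha hb))
  rw [mul_comm, act_mul]
  exact (act_mono a (act_le_P hb S)).trans (act_le_P ha _)

theorem killed_iff (k : ℕ) : ARSys.KilledBy (J ^ k) X ↔ P J k (⊤ : Subobject X) = ⊥ := by
  rw [← le_bot_iff, P_le_iff]
  exact forall₂_congr fun a _ => by rw [le_bot_iff, act]; exact eq_zero_iff_rng _

theorem homKilled_iff (k : ℕ) (φ : X ⟶ Y) :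
    ARSys.HomKilledBy (J ^ k) φ ↔ P J k (⊤ : Subobject X) ≤ ker φ := by
  rw [← img_eq_bot_iff, img_P, ← le_bot_iff, P_le_iff]
  refine forall₂_congr fun a _ => ?_
  rw [le_bot_iff, act, ← rng_comp, ← eq_zero_iff_rng]
  simp

theorem isQuot_iff {k : ℕ} (p : X ⟶ Y) :
    ARSys.IsQuot (J ^ k) p ↔ Epi p ∧ ker p = P J k ⊤ := by
  constructor
  · rintro ⟨hY, hu⟩
    haveI hep : Epi p := Preadditive.epi_of_cancel_zero p fun g hg =>
      (hu _ (p ≫ g) (by rw [hg]; exact fun a _ => smul_zero a)).unique (y₁ := g) rfl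
        (by rw [hg, comp_zero])
    refine ⟨hep, le_antisymm ?_ ((homKilled_iff k p).1 (homKilled_of_killed hY p))⟩
    obtain ⟨ψ, hψ, -⟩ := hu _ (cokernel.π (P J k (⊤ : Subobject X)).arrow)
      ((homKilled_iff k _).2 (by rw [rng_cokernel_π, rng_arrow]))
    calc ker p ≤ ker (p ≫ ψ) := by rw [ker_comp]; exact ker_le_pre p _
      _ = P J k ⊤ := by rw [hψ, rng_cokernel_π, rng_arrow]
  · rintro ⟨hep, hker⟩
    refine ⟨(killed_iff k).2 ?_, fun W φ hφ => ?_⟩
    · rw [← rng_of_epi p, rng, ← img_P, img_eq_bot_iff, hker]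
    · obtain ⟨ψ, hψ⟩ := exists_desc p φ (hker.le.trans ((homKilled_iff k φ).1 hφ))
      exact ⟨ψ, hψ, fun ψ' h => (cancel_epi p).1 (h.trans hψ.symm)⟩

theorem exists_quot (k : ℕ) (X : C) :
    ∃ (Q : C) (p : X ⟶ Q), ARSys.IsQuot (J ^ k) p :=
  ⟨_, cokernel.π (P J k (⊤ : Subobject X)).arrow, (isQuot_iff _).2
    ⟨inferInstance, by rw [rng_cokernel_π, rng_arrow]⟩⟩

end Groth.Agent.ARLib
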