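import Groth.Agent.ARLib.ML
import Groth.Agent.ARLib.Pow

/-! Adic systems and the criterion for adicity up to translation. -/

set_option backward.isDefEq.respectTransparency false
set_option backward.isDefEq.respectTransparency.types false
set_option autoImplicit false
set_option linter.style.haveILetI false

universe w v u

open CategoryTheory CategoryTheory.Limits Opposite

namespace Groth.Agent.ARLib

variable {C : Type u} [Category.{v} C] [Abelian C] {A : Type w} [CommRing A] [Linear A C]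
  {J : Ideal A}

open ARSys (PS tr)

theorem isAdic_isStrict {X : PS C} (h : ARSys.IsAdic J X) : ARSys.IsStrict X :=
  fun n m hnm => quot_epi (h.2 n m hnm)

theorem termKilled_of_mono {X Y : PS C} (f : X ⟶ Y) [Mono f] (h : ARSys.TermKilled J Y) :
    ARSys.TermKilled J X := fun n =>
  haveI := mono_app f (op n)
  killed_of_mono (f.app (op n)) (h n)

theorem termKilled_of_epi {X Y : PS C} (f : X ⟶ Y) [Epi f] (h : ARSys.TermKilled J X) :
    ARSys.TermKilled J Y := fun n =>
  haveI := epi_app f (op n)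
  killed_of_epi (f.app (op n)) (h n)

section Ext

variable {W X Y : PS C}

theorem hom_unique (hW : ARSys.IsStrict W) {r : ℕ} {f g : W ⟶ X}
    (e : ∀ n, ARSys.shiftMap W r n ≫ f.app (op n) = ARSys.shiftMap W r n ≫ g.app (op n)) :
    f = g := by
  ext ⟨n⟩
  haveI : Epi (tr W (Nat.le_add_right n r)) := hW _ _ _
  exact (cancel_epi (tr W (Nat.le_add_right n r))).1 (e n)

theorem exists_hom (hW : ARSys.IsAdic J W) (hX : ARSys.TermKilled J X) {r : ℕ}
    (g : SHom r W X) : ∃ f : W ⟶ X, ∀ n m (h : n + r ≤ m),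
      g.app n m h = tr W ((Nat.le_add_right n r).trans h) ≫ f.app (op n) := by
  choose f hf hu using fun n : ℕ =>
    (hW.2 n (n + r) (Nat.le_add_right n r)).2 _ (g.app n (n + r) le_rfl)
      (homKilled_of_killed (hX n) _)
  have key : ∀ n m (h : n + r ≤ m),
      g.app n m h = tr W ((Nat.le_add_right n r).trans h) ≫ f n := fun n m h => by
    rw [← tr_tr W (Nat.le_add_right n r) h, Category.assoc, hf, g.pre]
  refine ⟨{ app := fun n => f n.unop, naturality := fun l n φ => ?_ }, key⟩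
  haveI : Epi (tr W (Nat.le_add_right l.unop r)) := isAdic_isStrict hW _ _ _
  rw [← cancel_epi (tr W (Nat.le_add_right l.unop r))]
  change tr W _ ≫ tr W φ.unop.le ≫ f n.unop = tr W _ ≫ f l.unop ≫ tr X φ.unop.le
  rw [tr_tr_assoc, ← key n.unop (l.unop + r) (by have := φ.unop.le; omega), ← Category.assoc,
    ← key l.unop (l.unop + r) le_rfl, g.post]

theorem existsUnique_hom_of_shift (hX : ARSys.IsAdic J X) (hY : ARSys.TermKilled J Y) (r : ℕ)
    (f : (ARSys.shift C r).obj X ⟶ Y) :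
    ∃! g : X ⟶ Y, ∀ n : ℕ, f.app (op n) = ARSys.shiftMap X r n ≫ g.app (op n) := by
  obtain ⟨g, hg⟩ := exists_hom hX hY (SHom.ofShift f)
  have h1 : ∀ n : ℕ, f.app (op n) = ARSys.shiftMap X r n ≫ g.app (op n) := fun n => by
    refine Eq.trans ?_ (hg n (n + r) le_rfl)
    change _ = tr X le_rfl ≫ f.app (op n)
    rw [tr_rfl, Category.id_comp]
  exact ⟨g, h1, fun g' hg' => hom_unique (r := r) (isAdic_isStrict hX)
    fun n => (hg' n).symm.trans (h1 n)⟩

theorem exists_arIso_of_shift {r : ℕ} (hY : ARSys.IsAdic J Y) (hX : ARSys.TermKilled J X)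
    (v : (ARSys.shift C r).obj Y ⟶ X) (hv : ARSys.IsARIso v) :
    ∃ u : Y ⟶ X, ARSys.IsARIso u := by
  obtain ⟨f, hf, -⟩ := existsUnique_hom_of_shift hY hX r v
  obtain ⟨t, w, hw⟩ := exists_inv hv
  refine ⟨f, Inv.isARIso (r := t) (v := ⟨fun n m h => w.app n m h ≫ ARSys.shiftMap Y r n,
    fun n m k h h' => w.pre_assoc n m k h h' _, fun n l m hl h h' => ?_⟩)
    ⟨fun n m h => ?_, fun n m h => ?_⟩⟩
  · rw [Category.assoc, tr_tr, ← w.post n l m hl h h', Category.assoc]
    refine congrArg (w.app l m h ≫ ·) ?_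
    exact (tr_tr Y (Nat.le_add_right n r) (Nat.add_le_add_right hl r)).symm
  · haveI : Epi (tr Y (Nat.le_add_right m r)) := isAdic_isStrict hY _ _ _
    rw [← cancel_epi (tr Y (Nat.le_add_right m r))]
    refine ((Category.assoc _ _ _).symm.trans (congrArg (· ≫ _) (hf m).symm)).trans ?_
    refine ((Category.assoc _ _ _).symm.trans (congrArg (· ≫ _) (hw.uv n m h))).trans ?_
    exact (tr_tr Y (Nat.le_add_right n r) (show n + r ≤ m + r by omega)).trans
      (tr_tr Y _ _).symm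
  · rw [Category.assoc, ← hf n, hw.vu]

end Ext

variable [Pow J C]

theorem termKilled_iff (X : PS C) : ARSys.TermKilled J X ↔
    ∀ n, P J (n + 1) (⊤ : Subobject (X.obj (op n))) = ⊥ :=
  forall_congr' fun _ => killed_iff _

theorem isAdic_iff (X : PS C) : ARSys.IsAdic J X ↔ ARSys.TermKilled J X ∧
    ∀ n m (h : n ≤ m), Epi (tr X h) ∧ ker (tr X h) = P J (n + 1) ⊤ :=
  and_congr_right fun _ => forall₃_congr fun _ _ _ => isQuot_iff _

theorem killed_P_le_ker {X : PS C} (hX : ARSys.TermKilled J X) {n m : ℕ} (h : n ≤ m) :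
    P J (n + 1) ⊤ ≤ ker (tr X h) :=
  (homKilled_iff _ _).1 (homKilled_of_killed (hX n) _)

theorem isStrict_of_epi {X Y : PS C} (f : X ⟶ Y) [Epi f] (h : ARSys.IsStrict X) :
    ARSys.IsStrict Y := fun n m hnm => by
  haveI := epi_app f (op n)
  haveI : Epi (tr X hnm) := h n m hnm
  have : Epi (f.app (op m) ≫ tr Y hnm) := by rw [← tr_nat]; infer_instance
  exact epi_of_epi (f.app (op m)) _

theorem isAdic_X₃ (S : ShortComplex (PS C)) (hS : S.ShortExact) (h₁ : ARSys.IsStrict S.X₁)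
    (h₂ : ARSys.IsAdic J S.X₂) : ARSys.IsAdic J S.X₃ := by
  haveI := hS.epi_g
  refine (isAdic_iff _).2 ⟨termKilled_of_epi S.g h₂.1, fun n m h =>
    ⟨isStrict_of_epi S.g (isAdic_isStrict h₂) n m h, ?_⟩⟩
  haveI := epi_app S.g (op m)
  haveI : Epi (tr S.X₁ h) := h₁ n m h
  have e : ker (S.g.app (op m) ≫ tr S.X₃ h) =
      P J (n + 1) ⊤ ⊔ rng (S.f.app (op m)) := by
    have e1 : rng (S.f.app (op n)) = img (tr S.X₂ h) (rng (S.f.app (op m))) := by
      rw [← rng_comp, ← tr_nat, rng_comp, rng_of_epi (tr S.X₁ h)]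
    rw [← tr_nat, ker_comp, ← exact_app hS.exact, e1, pre_img, ((isAdic_iff _).1 h₂).2 n m h |>.2, sup_comm]
  rw [← img_pre_of_epi (S.g.app (op m)) (ker (tr S.X₃ h)), ← ker_comp, e, img_sup, img_P,
    exact_app hS.exact, img_ker, sup_bot_eq, ← rng, rng_of_epi]

theorem isStrict_X₁ (S : ShortComplex (PS C)) (hS : S.ShortExact) (k₂ : ARSys.TermKilled J S.X₂)
    (h₂ : ARSys.IsStrict S.X₂) (h₃ : ARSys.IsAdic J S.X₃) : ARSys.IsStrict S.X₁ := by
  refine (isStrict_iff _).2 fun n m h => ?_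
  haveI := hS.mono_f
  haveI := hS.epi_g
  haveI := mono_app S.f (op n)
  haveI := epi_app S.g (op m)
  haveI : Epi (tr S.X₂ h) := h₂ n m h
  refine img_injective (S.f.app (op n)) (le_antisymm (img_mono _ le_top) ?_)
  have e : pre (tr S.X₂ h) (ker (S.g.app (op n))) ≤ P J (n + 1) ⊤ ⊔ ker (S.g.app (op m)) := by
    rw [← ker_comp, tr_nat, ker_comp, ((isAdic_iff _).1 h₃).2 n m h |>.2,
      ← rng_of_epi (S.g.app (op m)), rng, ← img_P, pre_img]
  rw [← rng, exact_app hS.exact, ← img_pre_of_epi (tr S.X₂ h) (ker (S.g.app (op n)))]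
  refine (img_mono _ e).trans ?_
  rw [img_sup, img_eq_bot_iff.2 (killed_P_le_ker k₂ h), bot_sup_eq, ← exact_app hS.exact,
    ← rng_comp, ← tr_nat, rng_comp]

theorem isAdic_X₂ (S : ShortComplex (PS C)) (hS : S.ShortExact) (k₂ : ARSys.TermKilled J S.X₂)
    (h₁ : ARSys.IsAdic J S.X₁) (h₃ : ARSys.IsAdic J S.X₃) : ARSys.IsAdic J S.X₂ := by
  haveI := hS.mono_f
  haveI := hS.epi_g
  refine (isAdic_iff _).2 ⟨k₂, fun n m h => ?_⟩
  obtain ⟨he₁, hk₁⟩ := ((isAdic_iff _).1 h₁).2 n m h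
  obtain ⟨he₃, hk₃⟩ := ((isAdic_iff _).1 h₃).2 n m h
  haveI := he₁
  haveI := he₃
  haveI := mono_app S.f (op n)
  haveI := epi_app S.g (op n)
  haveI := epi_app S.g (op m)
  constructor
  · rw [epi_iff_rng, eq_top_iff]
    have h1 : pre (S.g.app (op n)) (img (S.g.app (op n)) (rng (tr S.X₂ h))) = ⊤ := by
      rw [← rng_comp, tr_nat, rng_comp, rng_of_epi, ← rng, rng_of_epi, pre_top]
    rw [← h1, pre_img]
    refine sup_le le_rfl ?_
    rw [← exact_app hS.exact]
    calc rng (S.f.app (op n)) = rng (tr S.X₁ h ≫ S.f.app (op n)) := by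
          rw [rng_comp, rng_of_epi (tr S.X₁ h)]
      _ ≤ _ := by rw [tr_nat, rng_comp]; exact img_mono _ le_top
  · refine le_antisymm ?_ (killed_P_le_ker k₂ h)
    have h1 : ker (tr S.X₂ h) ≤ P J (n + 1) ⊤ ⊔ rng (S.f.app (op m)) := by
      rw [exact_app hS.exact, ← pre_img, img_P, ← rng, rng_of_epi, ← hk₃, ← ker_comp, ← tr_nat,
        ker_comp]
      exact ker_le_pre _ _
    calc ker (tr S.X₂ h) ≤ (P J (n + 1) ⊤ ⊔ rng (S.f.app (op m))) ⊓ ker (tr S.X₂ h) :=
          le_inf h1 le_rfl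
      _ ≤ P J (n + 1) ⊤ ⊔ rng (S.f.app (op m)) ⊓ ker (tr S.X₂ h) :=
          IsModularLattice.sup_inf_le_assoc_of_le _ (killed_P_le_ker k₂ h)
      _ ≤ P J (n + 1) ⊤ := by
          refine sup_le le_rfl ?_
          rw [inf_comm, ← img_pre, ← ker_comp, ← tr_nat, ker_comp, ker_of_mono]
          change img _ (ker (tr S.X₁ h)) ≤ _
          rw [hk₁, img_P]
          exact P_mono le_top

/-- The kernels of the transition maps are small. -/
def Crit (J : Ideal A) [Pow J C] (X : PS C) (r : ℕ) : Prop :=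
  ∀ n m (h : n ≤ m), ker (tr X h) ≤ P J (n + 1 - r) ⊤

theorem crit_of_step {X : PS C} (hX : ARSys.IsStrict X) {r : ℕ}
    (hs : ∀ n, ker (tr X (Nat.le_succ n)) ≤ P J (n + 1 - r) ⊤) : Crit J X r := by
  intro n m h
  induction hd : m - n generalizing n with
  | zero =>
    obtain rfl : m = n := by omega
    haveI : Mono (tr X h) := by rw [tr_rfl]; infer_instance
    rw [ker_of_mono]
    exact bot_le
  | succ d ih =>
    have h' : n + 1 ≤ m := by omega
    haveI : Epi (tr X h') := hX _ _ _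
    rw [← tr_tr X (Nat.le_succ n) h', ker_comp]
    refine (pre_mono _ (hs n)).trans ?_
    rw [← rng_of_epi (tr X h'), rng, ← img_P, pre_img]
    exact sup_le le_rfl ((ih (n + 1) h' (by omega)).trans (P_anti (by omega) _))

theorem crit_of_isARAdic {X : PS C} (hX : ARSys.IsStrict X) (h : ARSys.IsARAdic J X) :
    ∃ r, Crit J X r := by
  obtain ⟨-, W, u, hW, hu⟩ := h
  obtain ⟨r, v, hv⟩ := exists_inv hu
  refine ⟨r, fun n m hnm => ?_⟩
  rcases lt_or_ge n r with hn | hn
  · rw [show n + 1 - r = 0 by omega, P_zero]; exact le_top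
  have hep : ∀ a : ℕ, Epi (u.app (op a)) := fun a => by
    rw [epi_iff_rng, eq_top_iff, ← (isStrict_iff X).1 hX a (a + r) (Nat.le_add_right a r),
      ← hv.vu a (a + r) le_rfl, rng_comp]
    exact img_mono _ le_top
  haveI := hep m
  rw [← img_pre_of_epi (u.app (op m)) (ker (tr X hnm)), ← ker_comp, ← tr_nat, ker_comp]
  refine (img_mono _ (pre_mono _ (?_ : ker (u.app (op n)) ≤ ker (tr W (Nat.sub_le n r))))).trans ?_
  · rw [← hv.uv (n - r) n (by omega), ker_comp]; exact ker_le_pre _ _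
  rw [← ker_comp, tr_tr, ((isAdic_iff W).1 hW).2 (n - r) m (by omega) |>.2, img_P]
  exact (P_anti (by omega) _).trans (P_mono le_top)

theorem isARAdic_of_quot {X Y : PS C} {r : ℕ} (hX : ARSys.IsStrict X)
    (kX : ARSys.TermKilled J X) (q : (ARSys.shift C r).obj X ⟶ Y)
    (hq : ∀ n : ℕ, ARSys.IsQuot (J ^ (n + 1)) (q.app (op n))) (hY : ARSys.IsAdic J Y) :
    ARSys.IsARAdic J X := by
  choose f hf hu using fun n : ℕ =>
    (hq n).2 _ (ARSys.shiftMap X r n) (homKilled_of_killed (kX n) _)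
  have hep : ∀ n, Epi (q.app (op n)) := fun n => ((isQuot_iff _).1 (hq n)).1
  have qnat : ∀ {a b : ℕ} (h : a ≤ b), tr X (Nat.add_le_add_right h r) ≫ q.app (op a) =
      q.app (op b) ≫ tr Y h := fun h => q.naturality (homOfLE h).op
  let u : Y ⟶ X :=
    { app := fun n => f n.unop
      naturality := fun l n φ => by
        haveI := hep l.unop
        change tr Y φ.unop.le ≫ f n.unop = f l.unop ≫ tr X φ.unop.le
        rw [← cancel_epi (q.app (op l.unop)), ← Category.assoc, ← qnat φ.unop.le, Category.assoc,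
          hf, ← Category.assoc, hf]
        exact (tr_tr X _ _).trans (tr_tr X _ _).symm }
  refine ⟨kX, Y, u, hY, Inv.isARIso (r := r) (v := ⟨fun n m h => tr X h ≫ q.app (op n),
    fun n m k h h' => tr_tr_assoc X _ _ _, fun n l m hl h h' => ?_⟩) ⟨fun n m h => ?_, fun n m h => ?_⟩⟩
  · rw [Category.assoc, ← qnat hl, tr_tr_assoc]
  · haveI := hep m
    rw [← cancel_epi (q.app (op m))]
    change q.app (op m) ≫ f m ≫ tr X h ≫ q.app (op n) = _
    rw [← Category.assoc, hf, tr_tr_assoc, ← qnat (show n ≤ m by omega)]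
  · change (tr X h ≫ q.app (op n)) ≫ f n = _
    rw [Category.assoc, hf]
    exact tr_tr X _ _

theorem exists_quot_of_crit {X : PS C} (hX : ARSys.IsStrict X) {r : ℕ} (hc : Crit J X r) :
    ∃ (Y : PS C) (q : (ARSys.shift C r).obj X ⟶ Y),
      (∀ n : ℕ, ARSys.IsQuot (J ^ (n + 1)) (q.app (op n))) ∧ ARSys.IsAdic J Y := by
  let S : ∀ n : ℕ, Subobject (((ARSys.shift C r).obj X).obj (op n)) := fun n => P J (n + 1) ⊤
  have hS : ∀ n m (h : n ≤ m), img (tr ((ARSys.shift C r).obj X) h) (S m) ≤ S n := fun n m h => by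
    rw [img_P]; exact (P_anti (by omega) _).trans (P_mono le_top)
  let q := cokernel.π (subι _ S hS)
  have hker : ∀ n, ker (q.app (op n)) = P J (n + 1) ⊤ := fun n => by
    rw [ker_cokernel_app, rng_subι]
  have hq : ∀ n : ℕ, ARSys.IsQuot (J ^ (n + 1)) (q.app (op n)) := fun n =>
    (isQuot_iff _).2 ⟨epi_app q _, hker n⟩
  have hstr : ARSys.IsStrict ((ARSys.shift C r).obj X) := fun n m h => hX _ _ _
  refine ⟨_, q, hq, (isAdic_iff _).2 ⟨fun n => (hq n).1, fun n m h => ?_⟩⟩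
  refine ⟨isStrict_of_epi q hstr n m h, ?_⟩
  haveI := epi_app q (op m)
  haveI : Epi (tr ((ARSys.shift C r).obj X) h) := hstr n m h
  refine le_antisymm ?_ ((homKilled_iff _ _).1 (homKilled_of_killed (hq n).1 _))
  rw [← img_pre_of_epi (q.app (op m)) (ker _), ← ker_comp, ← tr_nat, ker_comp, hker,
    ← rng_of_epi (tr ((ARSys.shift C r).obj X) h), rng, ← img_P, pre_img]
  refine (img_mono _ (sup_le le_rfl ?_)).trans ?_
  · refine le_trans ?_ (P_anti (show n + 1 ≤ n + r + 1 - r by omega) _)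
    exact hc (n + r) (m + r) (Nat.add_le_add_right h r)
  · rw [img_P]; exact P_mono le_top

theorem isARAdic_of_crit {X : PS C} (hX : ARSys.IsStrict X) (kX : ARSys.TermKilled J X) {r : ℕ}
    (hc : Crit J X r) : ARSys.IsARAdic J X := by
  obtain ⟨Y, q, hq, hY⟩ := exists_quot_of_crit hX hc
  exact isARAdic_of_quot hX kX q hq hY

theorem isARAdic_iff_quot {X : PS C} (hX : ARSys.IsStrict X) (kX : ARSys.TermKilled J X) :
    ARSys.IsARAdic J X ↔ ∃ (r : ℕ) (Y : PS C) (q : (ARSys.shift C r).obj X ⟶ Y),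
      (∀ n : ℕ, ARSys.IsQuot (J ^ (n + 1)) (q.app (op n))) ∧ ARSys.IsAdic J Y := by
  refine ⟨fun h => ?_, fun ⟨r, Y, q, hq, hY⟩ => isARAdic_of_quot hX kX q hq hY⟩
  obtain ⟨r, hr⟩ := crit_of_isARAdic hX h
  exact ⟨r, exists_quot_of_crit hX hr⟩

theorem subLE_iff {k : ℕ} {X : C} (S : Subobject X) :
    ARSys.SubLEIdeal (J ^ k) S ↔ S ≤ P J k ⊤ := by
  constructor
  · intro h
    have := h _ (cokernel.π (P J k (⊤ : Subobject X)).arrow)
      ((homKilled_iff k _).2 (by rw [rng_cokernel_π, rng_arrow]))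
    refine le_trans ?_ (by rw [rng_cokernel_π, rng_arrow] :
      ker (cokernel.π (P J k (⊤ : Subobject X)).arrow) ≤ P J k ⊤)
    exact Subobject.le_of_factors ((ker_factors_iff _ _).2 this)
  · intro h W φ hφ
    exact (ker_factors_iff φ _).1 (Subobject.factors_of_le _ (h.trans ((homKilled_iff k φ).1 hφ))
      (Subobject.factors_self S))

theorem isARAdic_iff_fker {X : PS C} (hX : ARSys.IsStrict X) (kX : ARSys.TermKilled J X) :
    ARSys.IsARAdic J X ↔
      ∃ r : ℕ, 0 < r ∧ ∀ n : ℕ, ARSys.SubLEIdeal (J ^ (n - r)) (ARSys.Fker X n) := by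
  constructor
  · intro h
    obtain ⟨r, hr⟩ := crit_of_isARAdic hX h
    refine ⟨r + 1, by omega, fun n => (subLE_iff _).2 ?_⟩
    cases n with
    | zero => rw [Nat.zero_sub, P_zero]; exact le_top
    | succ k =>
      change kernelSubobject (tr X (Nat.le_succ k)) ≤ _
      rw [kernelSubobject_eq]
      exact (hr k (k + 1) _).trans (P_anti (by omega) _)
  · rintro ⟨r, -, hr⟩
    refine isARAdic_of_crit hX kX (r := r) (crit_of_step hX fun n => ?_)
    rw [← kernelSubobject_eq]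
    exact (subLE_iff _).1 (hr (n + 1))

end Groth.Agent.ARLib
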