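import Groth.Agent.ARLib.Adic

/-! Kernels, cokernels and extensions up to translation. -/

set_option backward.isDefEq.respectTransparency false
set_option backward.isDefEq.respectTransparency.types false
set_option autoImplicit false
set_option linter.style.haveILetI false

universe w v u

open CategoryTheory CategoryTheory.Limits Opposite ZeroObject

namespace Groth.Agent.ARLib

variable {C : Type u} [Category.{v} C] [Abelian C]

open ARSys (PS tr)

theorem isARIso_id (X : PS C) : ARSys.IsARIso (𝟙 X) :=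
  (isARIso_iff _).2 ⟨0, fun n m h => ⟨(ker_of_mono (𝟙 (X.obj (op m)))).le.trans bot_le,
    le_top.trans (rng_of_epi (𝟙 (X.obj (op n)))).ge⟩⟩

theorem isARIso_of_comp_right {X Y Z : PS C} {f : X ⟶ Y} {u : Y ⟶ Z} (hu : ARSys.IsARIso u)
    (h : ARSys.IsARIso (f ≫ u)) : ARSys.IsARIso f := by
  obtain ⟨r, v, hv⟩ := exists_inv hu
  obtain ⟨t, c, hc⟩ := exists_inv h
  refine Inv.isARIso (v := ((SHom.ofHom u 0).comp c).comp (SHom.trS r X))
    ⟨fun n m h => ?_, fun n m h => ?_⟩
  · rw [SHom.comp_app _ (SHom.trS r X) (k := n + r) le_rfl (by omega),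
      SHom.comp_app (SHom.ofHom u 0) c (k := m) (by omega) (by omega)]
    simp only [SHom.trS, SHom.ofHom, tr_rfl, Category.id_comp]
    rw [Category.assoc, ← Category.assoc (f.app _), ← NatTrans.comp_app, ← Category.assoc,
      hc.uv, tr_tr]
  · rw [SHom.comp_app _ (SHom.trS r X) (k := n + r) le_rfl (by omega),
      SHom.comp_app (SHom.ofHom u 0) c (k := m) (by omega) (by omega)]
    simp only [SHom.trS, SHom.ofHom, tr_rfl, Category.id_comp, Category.assoc]
    rw [tr_nat, ← hv.uv n (n + r) le_rfl, ← Category.assoc (f.app _) (u.app _),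
      ← NatTrans.comp_app, ← Category.assoc (c.app _ _ _), hc.vu, ← Category.assoc, ← tr_nat,
      Category.assoc, hv.uv, tr_tr]

theorem isARIso_ker_map {K K' X X' Y Y' : PS C} {κ : K ⟶ X} {f : X ⟶ Y} {κ' : K' ⟶ X'}
    {f' : X' ⟶ Y'} [Mono κ] [Mono κ'] (hκ : ∀ n, rng (κ.app n) = ker (f.app n))
    (hκ' : ∀ n, rng (κ'.app n) = ker (f'.app n)) {a : X' ⟶ X} {b : Y' ⟶ Y} {j : K' ⟶ K}
    (hj : j ≫ κ = κ' ≫ a) (hab : f' ≫ b = a ≫ f) (ha : ARSys.IsARIso a)
    (hb : ARSys.IsARIso b) : ARSys.IsARIso j := by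
  obtain ⟨r, hr⟩ := (isARIso_iff a).1 ha
  obtain ⟨t, ht⟩ := (isARIso_iff b).1 hb
  have hjn : ∀ n, j.app n ≫ κ.app n = κ'.app n ≫ a.app n := fun n => by
    rw [← NatTrans.comp_app, hj, NatTrans.comp_app]
  refine (isARIso_iff j).2 ⟨r + t, fun n m h => ⟨?_, ?_⟩⟩
  · haveI := mono_app κ' (op n)
    rw [← img_eq_bot_iff, ← le_bot_iff, ← ker_of_mono (κ'.app (op n)), ← img_le_iff, img_img,
      tr_nat, ← img_img, le_bot_iff, img_eq_bot_iff, img_le_iff]
    refine le_trans ?_ (pre_mono _ (hr n m (by omega)).1)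
    rw [← ker_comp, ← hjn, ker_comp]
    exact ker_le_pre _ _
  · haveI := mono_app κ (op n)
    rw [← pre_img_of_mono (κ.app (op n)) (rng (j.app (op n))), ← img_le_iff, ← rng_comp, tr_nat,
      rng_comp, hκ, ← rng_comp, hjn, rng_comp, hκ']
    have hp : n + t ≤ m := by omega
    rw [← tr_tr X (Nat.le_add_right n t) hp, ← img_img]
    have h1 : img (tr X hp) (ker (f.app (op m))) ≤
        img (a.app (op (n + t))) (ker (f'.app (op (n + t)) ≫ b.app (op (n + t)))) := by
      rw [← NatTrans.comp_app, hab, NatTrans.comp_app, ker_comp, img_pre]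
      exact le_inf (img_tr_ker f hp) ((img_mono _ le_top).trans (hr (n + t) m (by omega)).2)
    refine (img_mono _ h1).trans ?_
    rw [img_img, ← tr_nat, ← img_img]
    refine img_mono _ ?_
    rw [← img_eq_bot_iff, img_img, tr_nat, ← img_img, img_eq_bot_iff, ker_comp]
    exact ((gc _).l_u_le _).trans (ht n (n + t) le_rfl).1

theorem isARIso_coker_map {Q Q' X X' Y Y' : PS C} {f : X ⟶ Y} {π : Y ⟶ Q} {f' : X' ⟶ Y'}
    {π' : Y' ⟶ Q'} [Epi π] [Epi π'] (hπ : ∀ n, ker (π.app n) = rng (f.app n))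
    (hπ' : ∀ n, ker (π'.app n) = rng (f'.app n)) {a : X' ⟶ X} {b : Y' ⟶ Y} {c : Q' ⟶ Q}
    (hc : π' ≫ c = b ≫ π) (hab : f' ≫ b = a ≫ f) (ha : ARSys.IsARIso a)
    (hb : ARSys.IsARIso b) : ARSys.IsARIso c := by
  obtain ⟨r, hr⟩ := (isARIso_iff a).1 ha
  obtain ⟨t, ht⟩ := (isARIso_iff b).1 hb
  have hcn : ∀ n, π'.app n ≫ c.app n = b.app n ≫ π.app n := fun n => by
    rw [← NatTrans.comp_app, hc, NatTrans.comp_app]
  refine (isARIso_iff c).2 ⟨r + t, fun n m h => ⟨?_, ?_⟩⟩
  · haveI := epi_app π' (op m)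
    have hp : n + t ≤ m := by omega
    rw [← img_pre_of_epi (π'.app (op m)) (ker (c.app (op m))), ← ker_comp, hcn, ker_comp, hπ,
      img_le_iff, ← ker_comp, ← tr_nat, ker_comp, hπ', ← img_le_iff,
      ← tr_tr Y' (Nat.le_add_right n t) hp, ← img_img]
    have h1 : img (tr Y' hp) (pre (b.app (op m)) (rng (f.app (op m)))) ≤
        rng (f'.app (op (n + t))) ⊔ ker (b.app (op (n + t))) := by
      rw [← pre_img, ← img_le_iff, img_img, tr_nat, ← img_img]
      refine (img_mono _ ((gc _).l_u_le _)).trans ?_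
      rw [← rng_comp, ← tr_nat, rng_comp]
      refine (img_mono _ (hr (n + t) m (by omega)).2).trans ?_
      rw [← rng_comp, ← rng_comp, ← NatTrans.comp_app, ← NatTrans.comp_app, hab]
    refine (img_mono _ h1).trans ?_
    rw [img_sup, img_eq_bot_iff.2 (ht n (n + t) le_rfl).1, sup_bot_eq]
    exact img_tr_rng f' _
  · haveI := epi_app π (op m)
    calc rng (tr Q _) = rng (tr Y ((Nat.le_add_right n (r + t)).trans h) ≫ π.app (op n)) := by
          rw [tr_nat, rng_comp, rng_of_epi (π.app (op m))]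
      _ ≤ rng (π'.app (op n) ≫ c.app (op n)) := by
          rw [hcn, rng_comp, rng_comp]; exact img_mono _ (ht n m (by omega)).2
      _ ≤ _ := by rw [rng_comp]; exact img_mono _ le_top

theorem isARNull_iff_of_shortExact (S : ShortComplex (PS C)) (hS : S.ShortExact) :
    ARSys.IsARNull S.X₂ ↔ (ARSys.IsARNull S.X₁ ∧ ARSys.IsARNull S.X₃) := by
  simp only [isARNull_iff]
  haveI := hS.mono_f
  haveI := hS.epi_g
  constructor
  · rintro ⟨r, hr⟩
    refine ⟨⟨r, fun n m h => ?_⟩, ⟨r, fun n m h => ?_⟩⟩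
    · haveI := mono_app S.f (op n)
      rw [← cancel_mono (S.f.app (op n)), tr_nat, hr n m h, comp_zero, zero_comp]
    · haveI := epi_app S.g (op m)
      rw [← cancel_epi (S.g.app (op m)), ← tr_nat, hr n m h, zero_comp, comp_zero]
  · rintro ⟨⟨r, hr⟩, ⟨t, ht⟩⟩
    refine ⟨r + t, fun n m h => ?_⟩
    rw [← tr_tr S.X₂ (Nat.le_add_right n r) (show n + r ≤ m by omega), eq_zero_iff_rng, rng_comp,
      ← le_bot_iff]
    refine (img_mono _ (?_ : _ ≤ ker (S.g.app (op (n + r))))).trans ?_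
    · rw [← img_eq_bot_iff, ← rng_comp, tr_nat, ht (n + r) m (by omega), comp_zero,
        ← eq_zero_iff_rng]
    · rw [← exact_app hS.exact, ← rng_comp, ← tr_nat, hr n (n + r) le_rfl, zero_comp,
        (eq_zero_iff_rng _).1 rfl]

section Chain

variable {X Y Z : C}

theorem strictMono_pair (f : X ⟶ Y) (g : Y ⟶ Z) (h : ker g ≤ rng f) :
    StrictMono fun S : Subobject Y => (img g S, pre f S) := by
  intro S S' hlt
  refine lt_of_le_of_ne ⟨img_mono g hlt.le, pre_mono f hlt.le⟩ fun e => hlt.not_ge ?_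
  simp only [Prod.mk.injEq] at e
  have h1 : S' ≤ S ⊔ ker g := by rw [← pre_img, ← img_le_iff, e.1]
  calc S' ≤ (S ⊔ ker g) ⊓ S' := le_inf h1 le_rfl
    _ ≤ S ⊔ ker g ⊓ S' := IsModularLattice.sup_inf_le_assoc_of_le _ hlt.le
    _ ≤ S := sup_le le_rfl <| by
      refine (inf_le_inf_right S' h).trans ?_
      rw [inf_comm, ← img_pre, ← e.2]
      exact (gc f).l_u_le S

theorem noeth_of_exact (f : X ⟶ Y) (g : Y ⟶ Z) (h : ker g ≤ rng f) [IsNoetherianObject X]
    [IsNoetherianObject Z] : IsNoetherianObject Y :=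
  (ObjectProperty.is_iff _ _).2 (strictMono_pair f g h).wellFoundedGT

theorem art_of_exact (f : X ⟶ Y) (g : Y ⟶ Z) (h : ker g ≤ rng f) [IsArtinianObject X]
    [IsArtinianObject Z] : IsArtinianObject Y :=
  (ObjectProperty.is_iff _ _).2 (strictMono_pair f g h).wellFoundedLT

theorem noeth_of_epi (p : X ⟶ Y) [Epi p] [IsNoetherianObject X] : IsNoetherianObject Y :=
  (ObjectProperty.is_iff _ _).2
    (((gc p).monotone_u.strictMono_of_injective (pre_injective p)).wellFoundedGT)

theorem art_of_epi (p : X ⟶ Y) [Epi p] [IsArtinianObject X] : IsArtinianObject Y :=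
  (ObjectProperty.is_iff _ _).2
    (((gc p).monotone_u.strictMono_of_injective (pre_injective p)).wellFoundedLT)

theorem ker_snd_le : ker (biprod.snd : X ⊞ Y ⟶ Y) ≤ rng (biprod.inl : X ⟶ X ⊞ Y) := by
  refine le_of_forall fun W h hh => ?_
  have e := (ker_factors_iff _ _).1 hh
  have : h = (h ≫ biprod.fst) ≫ biprod.inl := by ext <;> simp [e]
  rw [this]
  exact factors_img (Subobject.top_factors _)

theorem rng_desc (f : X ⟶ Z) (g : Y ⟶ Z) : rng (biprod.desc f g) = rng f ⊔ rng g := by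
  refine le_antisymm ?_ (sup_le ?_ ?_)
  · rw [biprod.desc_eq]
    refine (img_add_le _ _ _).trans (sup_le_sup ?_ ?_) <;>
      (rw [← img_img]; exact img_mono _ le_top)
  · rw [show f = biprod.inl ≫ biprod.desc f g by simp, rng_comp]
    exact (img_mono _ le_top).trans (le_of_eq (by simp))
  · rw [show g = biprod.inr ≫ biprod.desc f g by simp, rng_comp]
    exact (img_mono _ le_top).trans (le_of_eq (by simp))

end Chain

section Linear

variable {A : Type w} [CommRing A] [Linear A C] {J : Ideal A}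

theorem isARAdic_of_isARIso {X Y : PS C} {u : X ⟶ Y} (hu : ARSys.IsARIso u)
    (hY : ARSys.TermKilled J Y) (h : ARSys.IsARAdic J X) : ARSys.IsARAdic J Y := by
  obtain ⟨-, W, w, hW, hw⟩ := h
  exact ⟨hY, W, w ≫ u, hW, isARIso_comp hw hu⟩

theorem isARAdic_of_isARIso' {X Y : PS C} {u : X ⟶ Y} (hu : ARSys.IsARIso u)
    (hX : ARSys.TermKilled J X) (h : ARSys.IsARAdic J Y) : ARSys.IsARAdic J X := by
  obtain ⟨hY, W, w, hW, hw⟩ := h
  obtain ⟨r, v, hv⟩ := exists_inv hu
  obtain ⟨f, hf⟩ := exists_hom hW hX ((SHom.ofHom w 0).comp v)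
  have e : f ≫ u = w := by
    refine hom_unique (r := r + 0) (isAdic_isStrict hW) fun n => ?_
    rw [NatTrans.comp_app, ← Category.assoc]
    refine (congrArg (· ≫ u.app (op n)) (hf n (n + (r + 0)) le_rfl).symm).trans ?_
    rw [SHom.comp_app (SHom.ofHom w 0) v (k := n + r) le_rfl (by omega)]
    simp only [SHom.ofHom, Category.assoc]
    rw [hv.vu, ← tr_nat, tr_tr_assoc]
  exact ⟨hX, W, f, hW, isARIso_of_comp_right hu (e ▸ hw)⟩

theorem isMLAR_of_isARAdic {X : PS C} (h : ARSys.IsARAdic J X) : ARSys.IsMLAR X := by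
  obtain ⟨-, W, u, hW, hu⟩ := h
  exact isMLAR_of_isARIso hu ((isMLAR_iff W).2 ⟨0, mlb_of_strict (isAdic_isStrict hW)⟩)

variable [Pow J C]

theorem mlb_kernel {K X Z : PS C} {κ : K ⟶ X} {g : X ⟶ Z} [Mono κ] [Epi g]
    (hκ : ∀ n, rng (κ.app n) = ker (g.app n)) (hX : ARSys.IsStrict X)
    (kX : ARSys.TermKilled J X) {r : ℕ} (hZ : Crit J Z r) : MLb K r := by
  intro n m k h h'
  haveI := mono_app κ (op n)
  haveI := epi_app g (op k)
  haveI : Epi (tr X h') := hX _ _ _
  rw [← pre_img_of_mono (κ.app (op n)) (rng (tr K (((Nat.le_add_right n r).trans h).trans h'))),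
    ← img_le_iff, ← rng_comp, ← rng_comp, tr_nat, tr_nat, rng_comp, rng_comp, hκ, hκ]
  rw [← img_pre_of_epi (tr X h') (ker (g.app (op m))), ← ker_comp, tr_nat, ker_comp, img_img, tr_tr]
  refine (img_mono _ (pre_mono _ (hZ m k h'))).trans ?_
  rw [← rng_of_epi (g.app (op k)), rng, ← img_P, pre_img, img_sup]
  refine sup_le ?_ le_rfl
  exact ((img_mono _ (P_anti (by omega) _)).trans
    (img_eq_bot_iff.2 (killed_P_le_ker kX _)).le).trans bot_le

theorem crit_of_extension {X Y Z : PS C} (f : X ⟶ Y) (g : Y ⟶ Z) [Mono f] [Epi g]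
    (he : ∀ n, rng (f.app n) = ker (g.app n)) (hY : ARSys.IsStrict Y)
    (kY : ARSys.TermKilled J Y) {W : PS C} (hW : ARSys.IsAdic J W) {u : W ⟶ X} {t : ℕ}
    {v : SHom t X W} (hv : Inv u v) {r : ℕ} (hZ : Crit J Z r) : Crit J Y (r + t + 1) := by
  refine crit_of_step hY fun n => ?_
  rcases le_or_gt (n + 1) (r + t + 1) with hn | hn
  · rw [show n + 1 - (r + t + 1) = 0 by omega, P_zero]; exact le_top
  obtain ⟨q, rfl⟩ : ∃ q, n = q + r + t := ⟨n - r - t, by omega⟩
  let p := q + r + t + 1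
  let m := p + t
  have hpm : p ≤ m := Nat.le_add_right _ _
  haveI : Epi (tr Y hpm) := hY _ _ _
  haveI := mono_app f (op m)
  haveI := epi_app g (op m)
  rw [← img_pre_of_epi (tr Y hpm) (ker _), ← ker_comp, tr_tr]
  have h1 : ker (tr Y (show q + r + t ≤ m by omega)) ≤
      P J (q + t + 1) ⊤ ⊔ rng (f.app (op m)) := by
    rw [he, ← pre_img, img_P, ← rng, rng_of_epi]
    refine le_trans ?_ (pre_mono _ ((hZ (q + r + t) m (by omega)).trans (P_anti (by omega) _)))
    rw [← ker_comp, ← tr_nat, ker_comp]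
    exact ker_le_pre _ _
  have h2 : ker (tr Y (show q + r + t ≤ m by omega)) ≤ ker (tr Y (show q + t ≤ m by omega)) :=
    ker_tr_mono Y (show q + t ≤ q + r + t by omega) (show q + r + t ≤ m by omega)
  refine (img_mono _ ((le_inf h1 h2).trans (IsModularLattice.sup_inf_le_assoc_of_le _
    (killed_P_le_ker kY _)))).trans ?_
  rw [img_sup, img_P, inf_comm, ← img_pre, ← ker_comp, ← tr_nat, ker_comp]
  refine sup_le ((P_mono le_top).trans (P_anti (by omega) _)) ?_
  haveI := mono_app f (op (q + t))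
  rw [ker_of_mono, img_img, ← tr_nat, ← img_img, ← hv.vu p m le_rfl, ← img_img]
  have h3 : img (v.app p m le_rfl) (ker (tr X (show q + t ≤ m by omega))) ≤ P J (q + 1) ⊤ := by
    rw [← ((isAdic_iff W).1 hW).2 q p (by omega) |>.2, img_le_iff, ← ker_comp,
      v.post q p m (by omega) le_rfl (by omega), ← v.pre q (q + t) m le_rfl (by omega), ker_comp]
    exact ker_le_pre _ _
  refine (img_mono _ (img_mono _ h3)).trans ?_
  rw [img_P, img_P]
  exact (P_anti (by omega) _).trans (P_mono le_top)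

theorem isARAdic_of_extension (S : ShortComplex (PS C)) (hS : S.ShortExact)
    (k₂ : ARSys.TermKilled J S.X₂) (h₁ : ARSys.IsARAdic J S.X₁) (h₃ : ARSys.IsARAdic J S.X₃) :
    ARSys.IsARAdic J S.X₂ := by
  haveI := hS.mono_f
  haveI := hS.epi_g
  obtain ⟨r, hr⟩ := (isMLAR_iff _).1
    (isMLAR_X₂ S hS (isMLAR_of_isARAdic h₁) (isMLAR_of_isARAdic h₃))
  have hι := isARIso_univι hr
  have hstr := isStrict_univSys hr
  have hk : ARSys.TermKilled J (univSys hr) := termKilled_of_mono (univι hr) k₂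
  let g' := univι hr ≫ S.g
  let π := Abelian.coimage.π g'
  let m := Abelian.factorThruCoimage g'
  have hπm : π ≫ m = univι hr ≫ S.g := Abelian.coimage.fac g'
  have hπ : ∀ n, ker (π.app n) = ker (g'.app n) := fun n =>
    (ker_cokernel_app (kernel.ι g') n).trans (rng_kernel_app g' n)
  have hm : ARSys.IsARIso m := by
    obtain ⟨t, ht⟩ := (isARIso_iff _).1 hι
    refine (isARIso_iff m).2 ⟨t, fun n k h => ⟨?_, ?_⟩⟩
    · haveI := mono_app m (op k)
      rw [ker_of_mono]; exact bot_le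
    · haveI := epi_app S.g (op k)
      calc rng (tr S.X₃ _) = rng (tr S.X₂ ((Nat.le_add_right n t).trans h) ≫ S.g.app (op n)) := by
            rw [tr_nat, rng_comp, rng_of_epi (S.g.app (op k))]
        _ ≤ rng (π.app (op n) ≫ m.app (op n)) := by
            rw [← NatTrans.comp_app, hπm, NatTrans.comp_app, rng_comp, rng_comp]
            exact img_mono _ (ht n k h).2
        _ ≤ _ := by rw [rng_comp]; exact img_mono _ le_top
  have hZk : ARSys.TermKilled J (Abelian.coimage g') := termKilled_of_epi π hk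
  obtain ⟨rz, hrz⟩ := crit_of_isARAdic (isStrict_of_epi π hstr)
    (isARAdic_of_isARIso' hm hZk h₃)
  have hκ : ∀ n, rng ((kernel.ι g').app n) = ker (π.app n) := fun n =>
    (rng_kernel_app g' n).trans (hπ n).symm
  obtain ⟨j, hj⟩ : ∃ j : kernel g' ⟶ S.X₁, j ≫ S.f = kernel.ι g' ≫ univι hr :=
    ⟨hS.fIsKernel.lift (KernelFork.ofι (kernel.ι g' ≫ univι hr)
      (by rw [Category.assoc]; exact kernel.condition g')),
      Fork.IsLimit.lift_ι hS.fIsKernel⟩
  have hjiso := isARIso_ker_map (f := S.g) (f' := π) (exact_app hS.exact) hκ hj hπm hι hm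
  have hKk : ARSys.TermKilled J (kernel g') := termKilled_of_mono (kernel.ι g') hk
  obtain ⟨-, W, w, hW, hw⟩ := isARAdic_of_isARIso' hjiso hKk h₁
  obtain ⟨t, v, hv⟩ := exists_inv hw
  exact isARAdic_of_isARIso hι k₂ (isARAdic_of_crit hstr hk
    (crit_of_extension (kernel.ι g') π hκ hstr hk hW hv hrz))

theorem isMLAR_X₁ (S : ShortComplex (PS C)) (hS : S.ShortExact) (k₂ : ARSys.TermKilled J S.X₂)
    (h₂ : ARSys.IsMLAR S.X₂) (h₃ : ARSys.IsARAdic J S.X₃) : ARSys.IsMLAR S.X₁ := by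
  haveI := hS.mono_f
  haveI := hS.epi_g
  obtain ⟨r, hr⟩ := (isMLAR_iff _).1 h₂
  have hι := isARIso_univι hr
  have hstr := isStrict_univSys hr
  have hk : ARSys.TermKilled J (univSys hr) := termKilled_of_mono (univι hr) k₂
  let g' := univι hr ≫ S.g
  let π := Abelian.coimage.π g'
  let m := Abelian.factorThruCoimage g'
  have hπm : π ≫ m = univι hr ≫ S.g := Abelian.coimage.fac g'
  have hm : ARSys.IsARIso m := by
    obtain ⟨t, ht⟩ := (isARIso_iff _).1 hι
    refine (isARIso_iff m).2 ⟨t, fun n k h => ⟨?_, ?_⟩⟩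
    · haveI := mono_app m (op k)
      rw [ker_of_mono]; exact bot_le
    · haveI := epi_app S.g (op k)
      calc rng (tr S.X₃ _) = rng (tr S.X₂ ((Nat.le_add_right n t).trans h) ≫ S.g.app (op n)) := by
            rw [tr_nat, rng_comp, rng_of_epi (S.g.app (op k))]
        _ ≤ rng (π.app (op n) ≫ m.app (op n)) := by
            rw [← NatTrans.comp_app, hπm, NatTrans.comp_app, rng_comp, rng_comp]
            exact img_mono _ (ht n k h).2
        _ ≤ _ := by rw [rng_comp]; exact img_mono _ le_top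
  obtain ⟨rz, hrz⟩ := crit_of_isARAdic (isStrict_of_epi π hstr)
    (isARAdic_of_isARIso' hm (termKilled_of_epi π hk) h₃)
  have hκ : ∀ n, rng ((kernel.ι g').app n) = ker (π.app n) := fun n =>
    (rng_kernel_app g' n).trans
      ((ker_cokernel_app (kernel.ι g') n).trans (rng_kernel_app g' n)).symm
  obtain ⟨j, hj⟩ : ∃ j : kernel g' ⟶ S.X₁, j ≫ S.f = kernel.ι g' ≫ univι hr :=
    ⟨hS.fIsKernel.lift (KernelFork.ofι (kernel.ι g' ≫ univι hr)
      (by rw [Category.assoc]; exact kernel.condition g')),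
      Fork.IsLimit.lift_ι hS.fIsKernel⟩
  exact isMLAR_of_isARIso (isARIso_ker_map (f := S.g) (f' := π) (exact_app hS.exact) hκ hj hπm hι hm)
    ((isMLAR_iff _).2 ⟨_, mlb_kernel hκ hstr hk hrz⟩)

theorem isARAdic_X₃ (S : ShortComplex (PS C)) (hS : S.ShortExact) (k₃ : ARSys.TermKilled J S.X₃)
    (h₁ : ARSys.IsMLAR S.X₁) (h₂ : ARSys.IsARAdic J S.X₂) : ARSys.IsARAdic J S.X₃ := by
  haveI := hS.mono_f
  haveI := hS.epi_g
  obtain ⟨-, W, u, hW, hu⟩ := h₂
  let κ := kernel.ι (u ≫ S.g)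
  obtain ⟨j, hj⟩ : ∃ j : kernel (u ≫ S.g) ⟶ S.X₁, j ≫ S.f = κ ≫ u :=
    ⟨hS.fIsKernel.lift (KernelFork.ofι (κ ≫ u)
      (by rw [Category.assoc]; exact kernel.condition (u ≫ S.g))),
      Fork.IsLimit.lift_ι hS.fIsKernel⟩
  have hjiso := isARIso_ker_map (f := S.g) (f' := u ≫ S.g) (b := 𝟙 _) (exact_app hS.exact)
    (rng_kernel_app _) hj (Category.comp_id _) hu (isARIso_id _)
  obtain ⟨r, hr⟩ := (isMLAR_iff _).1 (isMLAR_of_isARIso' hjiso h₁)
  let i := univι hr ≫ κ
  have hQ : ARSys.IsAdic J (cokernel i) :=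
    isAdic_X₃ (ShortComplex.mk i (cokernel.π i) (cokernel.condition i))
      (ShortComplex.ShortExact.mk' (ShortComplex.exact_of_g_is_cokernel _ (cokernelIsCokernel i))
        inferInstance inferInstance)
      (isStrict_univSys hr) hW
  let c : cokernel i ⟶ S.X₃ := cokernel.desc i (u ≫ S.g)
    ((Category.assoc _ _ _).trans (by rw [kernel.condition, comp_zero]))
  refine ⟨k₃, _, c, hQ, isARIso_coker_map (f := S.f) (f' := i) (π' := cokernel.π i)
    (fun n => (exact_app hS.exact n).symm) (ker_cokernel_app i) (cokernel.π_desc _ _ _)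
    (a := univι hr ≫ j) ?_ (isARIso_comp (isARIso_univι hr) hjiso) hu⟩
  rw [Category.assoc, Category.assoc, hj]

theorem isARAdic_of_four_term {T X Y Z : PS C} (a : T ⟶ X) (b : X ⟶ Y) (c : Y ⟶ Z) [Mono a]
    [Epi c] (wab : a ≫ b = 0) (wbc : b ≫ c = 0) (hab : (ShortComplex.mk a b wab).Exact)
    (hbc : (ShortComplex.mk b c wbc).Exact) (hT : ARSys.IsARNull T) (hX : ARSys.IsAdic J X)
    (hY : ARSys.TermKilled J Y) (hZ : ARSys.IsAdic J Z) : ARSys.IsARAdic J Y := by
  let π := cokernel.π a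
  let i : cokernel a ⟶ Y := cokernel.desc a b wab
  haveI : Mono i := hab.mono_cokernelDesc
  have hπi : π ≫ i = b := cokernel.π_desc a b wab
  have hiso : ARSys.IsARIso π := by
    obtain ⟨r, hr⟩ := (isARNull_iff T).1 hT
    refine (isARIso_iff π).2 ⟨r, fun n m h => ⟨?_, ?_⟩⟩
    · rw [ker_cokernel_app, ← img_eq_bot_iff, ← rng_comp, ← tr_nat, hr n m h, zero_comp,
        (eq_zero_iff_rng _).1 rfl]
    · haveI := epi_app π (op n)
      rw [rng_of_epi (π.app (op n))]; exact le_top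
  have w : i ≫ c = 0 := by rw [← cancel_epi π, ← Category.assoc, hπi, wbc, comp_zero]
  refine isARAdic_of_extension (ShortComplex.mk i c w)
    (ShortComplex.ShortExact.mk' (exact_of_ker_le ?_) inferInstance inferInstance) hY
    ⟨termKilled_of_epi π hX.1, X, π, hX, hiso⟩ ⟨hZ.1, Z, 𝟙 Z, hZ, isARIso_id Z⟩
  refine (rng_eq_ker hbc).ge.trans ?_
  change rng b ≤ rng i
  rw [← hπi, rng_comp]
  exact img_mono _ le_top

theorem noeth_components {S : ShortComplex (PS C)} (hS : S.ShortExact) (n : ℕ)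
    [IsNoetherianObject (S.X₁.obj (op n))] [IsNoetherianObject (S.X₃.obj (op n))] :
    IsNoetherianObject (S.X₂.obj (op n)) :=
  noeth_of_exact (S.f.app (op n)) (S.g.app (op n)) (exact_app hS.exact (op n)).ge

theorem art_components {S : ShortComplex (PS C)} (hS : S.ShortExact) (n : ℕ)
    [IsArtinianObject (S.X₁.obj (op n))] [IsArtinianObject (S.X₃.obj (op n))] :
    IsArtinianObject (S.X₂.obj (op n)) :=
  art_of_exact (S.f.app (op n)) (S.g.app (op n)) (exact_app hS.exact (op n)).ge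

theorem obj_induction (hJ : J.FG) (p : C → Prop) (h0' : ∀ Z : C, IsZero Z → p Z)
    (hbi : ∀ X Y : C, p X → p Y → p (X ⊞ Y))
    (hq : ∀ {X Y : C} (f : X ⟶ Y), Epi f → p X → p Y)
    (hex : ∀ {X Y Z : C} (f : X ⟶ Y) (g : Y ⟶ Z), ker g ≤ rng f → p X → p Z → p Y)
    {X : PS C} (hX : ARSys.IsAdic J X) (h0 : p (X.obj (op 0))) (n : ℕ) : p (X.obj (op n)) := by
  classical
  induction n with
  | zero => exact h0
  | succ k ih =>
    obtain ⟨s, hs⟩ := Ideal.FG.pow (n := k + 1) hJ
    let M := X.obj (op (k + 1))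
    have key : ∀ t : Finset A, ↑t ⊆ ((J ^ (k + 1) : Ideal A) : Set A) → ∃ (N : C) (g : N ⟶ M),
        p N ∧ rng g = t.sup fun a => act a (⊤ : Subobject M) := by
      intro t
      induction t using Finset.induction with
      | empty =>
        exact fun _ => ⟨0, 0, h0' 0 (isZero_zero C), (eq_zero_iff_rng _).1 rfl⟩
      | @insert a t _ iht =>
        intro ha
        rw [Finset.coe_insert, Set.insert_subset_iff] at ha
        obtain ⟨N, g, hN, hg⟩ := iht ha.2
        haveI : Epi (tr X (Nat.zero_le (k + 1))) := isAdic_isStrict hX _ _ _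
        have hle : ker (tr X (Nat.zero_le (k + 1))) ≤ ker (a • 𝟙 M) := by
          rw [((isAdic_iff X).1 hX).2 0 (k + 1) (Nat.zero_le _) |>.2, ← img_eq_bot_iff, ← le_bot_iff,
            ← ((termKilled_iff X).1 hX.1 (k + 1))]
          exact (act_P_le (show a ∈ J ^ (k + 1) from ha.1) 1 ⊤).trans (P_anti le_rfl _)
        obtain ⟨ψ, hψ⟩ := exists_desc (tr X (Nat.zero_le (k + 1))) _ hle
        refine ⟨N ⊞ X.obj (op 0), biprod.desc g ψ, hbi _ _ hN h0, ?_⟩
        rw [rng_desc, hg, Finset.sup_insert, sup_comm]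
        congr 1
        rw [act, ← hψ, ← img_img, ← rng, rng_of_epi (tr X (Nat.zero_le (k + 1)))]
    obtain ⟨N, g, hN, hg⟩ := key s fun a ha => hs ▸ Submodule.subset_span ha
    refine hex g (tr X (Nat.le_succ k)) ?_ hN ih
    rw [((isAdic_iff X).1 hX).2 k (k + 1) _ |>.2, hg, P_le_iff]
    intro a ha
    rw [← hs] at ha
    refine Submodule.span_induction
      (p := fun a _ => act a ⊤ ≤ s.sup fun a => act a (⊤ : Subobject M))
      (fun a ha => Finset.le_sup (f := fun a => act a (⊤ : Subobject M)) ha)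
      ((act_zero _).le.trans bot_le)
      (fun a b _ _ ha hb => (act_add_le a b _).trans (sup_le ha hb)) (fun r a _ ha => ?_) ha
    rw [smul_eq_mul, mul_comm, act_mul]
    exact (act_le r _).trans ha

theorem noeth_of_isAdic (hJ : J.FG) {X : PS C} (hX : ARSys.IsAdic J X)
    (h0 : IsNoetherianObject (X.obj (op 0))) (n : ℕ) : IsNoetherianObject (X.obj (op n)) :=
  obj_induction hJ (fun Z => IsNoetherianObject Z) (fun _ h => isNoetherianObject_of_isZero h)
    (fun _ _ h h' => haveI := h; haveI := h'; noeth_of_exact biprod.inl biprod.snd ker_snd_le)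
    (fun f hf h => haveI := hf; haveI := h; noeth_of_epi f)
    (fun f g he h h' => haveI := h; haveI := h'; noeth_of_exact f g he) hX h0 n

theorem art_of_isAdic (hJ : J.FG) {X : PS C} (hX : ARSys.IsAdic J X)
    (h0 : IsArtinianObject (X.obj (op 0))) (n : ℕ) : IsArtinianObject (X.obj (op n)) :=
  obj_induction hJ (fun Z => IsArtinianObject Z) (fun _ h => isArtinianObject_of_isZero h)
    (fun _ _ h h' => haveI := h; haveI := h'; art_of_exact biprod.inl biprod.snd ker_snd_le)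
    (fun f hf h => haveI := hf; haveI := h; art_of_epi f)
    (fun f g he h h' => haveI := h; haveI := h'; art_of_exact f g he) hX h0 n

end Linear

end Groth.Agent.ARLib
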