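import Groth.Agent.ARLib.Ext

/-! Calculus of fractions for translations, limits, injective systems. -/

set_option backward.isDefEq.respectTransparency false
set_option backward.isDefEq.respectTransparency.types false
set_option autoImplicit false
set_option linter.style.haveILetI false

universe v u

open CategoryTheory CategoryTheory.Limits Opposite

namespace Groth.Agent.ARLib

variable {C : Type u} [Category.{v} C]

open ARSys (PS tr)

theorem isIso_tr_of_eq (X : PS C) {a b : ℕ} (h : a ≤ b) (h' : b ≤ a) : IsIso (tr X h) :=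
  ⟨⟨tr X h', (tr_tr X h' h).trans (tr_rfl X _ _), (tr_tr X h h').trans (tr_rfl X _ _)⟩⟩

theorem nat_shift {X Y : PS C} {r : ℕ} (g : (ARSys.shift C r).obj X ⟶ Y) {a b : ℕ} (h : a ≤ b) :
    tr X (Nat.add_le_add_right h r) ≫ g.app (op a) = g.app (op b) ≫ tr Y h :=
  g.naturality (homOfLE h).op

theorem nat_shift' {X Y : PS C} {r : ℕ} (g : Y ⟶ (ARSys.shift C r).obj X) {a b : ℕ} (h : a ≤ b) :
    tr Y h ≫ g.app (op a) = g.app (op b) ≫ tr X (Nat.add_le_add_right h r) :=
  g.naturality (homOfLE h).op

theorem trClass_iff {X Y : PS C} (f : X ⟶ Y) : ARSys.trClass f ↔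
    ∃ (r : ℕ) (e : X ≅ (ARSys.shift C r).obj Y), f = e.hom ≫ shiftNat Y r :=
  exists_congr fun r => exists_congr fun e =>
    ⟨fun h => NatTrans.ext (funext fun n => h n.unop), fun h n => by rw [h]; rfl⟩

theorem trClass_shiftNat (X : PS C) (r : ℕ) : ARSys.trClass (shiftNat X r) :=
  (trClass_iff _).2 ⟨r, Iso.refl _, (Category.id_comp _).symm⟩

theorem shiftNat_naturality {X Y : PS C} (f : X ⟶ Y) (r : ℕ) :
    shiftNat X r ≫ f = (ARSys.shift C r).map f ≫ shiftNat Y r :=
  NatTrans.ext (funext fun n => tr_nat f (Nat.le_add_right n.unop r))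

theorem isMultiplicative_trClass : (ARSys.trClass (C := C)).IsMultiplicative where
  id_mem X := by
    refine ⟨0, NatIso.ofComponents (fun n => Iso.refl _) (fun {n m} φ => ?_), fun n => ?_⟩
    · change X.map φ ≫ 𝟙 _ = 𝟙 _ ≫ X.map φ
      rw [Category.comp_id, Category.id_comp]
    · change 𝟙 _ = 𝟙 _ ≫ tr X _
      rw [tr_rfl, Category.id_comp]
  comp_mem {X Y Z} f g hf hg := by
    obtain ⟨r, e, rfl⟩ := (trClass_iff f).1 hf
    obtain ⟨s, e', rfl⟩ := (trClass_iff g).1 hg
    let σ : (ARSys.shift C r).obj ((ARSys.shift C s).obj Z) ≅ (ARSys.shift C (r + s)).obj Z :=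
      NatIso.ofComponents (fun n =>
        haveI := isIso_tr_of_eq Z (show n.unop + (r + s) ≤ n.unop + r + s by omega) (by omega)
        asIso (tr Z (show n.unop + (r + s) ≤ n.unop + r + s by omega))) (fun {n m} φ => by
          change tr Z (Nat.add_le_add_right (Nat.add_le_add_right φ.unop.le r) s) ≫ tr Z _ =
            tr Z _ ≫ tr Z (Nat.add_le_add_right φ.unop.le (r + s))
          rw [tr_tr, tr_tr])
    refine ⟨r + s, e ≪≫ (ARSys.shift C r).mapIso e' ≪≫ σ, fun n => ?_⟩
    change (e.hom.app (op n) ≫ tr Y (Nat.le_add_right n r)) ≫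
        e'.hom.app (op n) ≫ tr Z (Nat.le_add_right n s) =
      (e.hom.app (op n) ≫ e'.hom.app (op (n + r)) ≫ tr Z _) ≫ tr Z _
    simp only [Category.assoc]
    rw [← Category.assoc (tr Y _) (e'.hom.app _), nat_shift' e'.hom, Category.assoc, tr_tr, tr_tr]
    rfl

theorem hasRightCalculus : (ARSys.trClass (C := C)).HasRightCalculusOfFractions where
  toIsMultiplicative := isMultiplicative_trClass
  exists_rightFraction X Y φ := by
    obtain ⟨r, e, he⟩ := (trClass_iff φ.s).1 φ.hs
    refine ⟨⟨shiftNat X r, trClass_shiftNat X r, (ARSys.shift C r).map φ.f ≫ e.inv⟩, ?_⟩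
    change shiftNat X r ≫ φ.f = _
    rw [he, Category.assoc, e.inv_hom_id_assoc, shiftNat_naturality]
  ext X Y Y' f₁ f₂ s hs h := by
    obtain ⟨r, e, he⟩ := (trClass_iff s).1 hs
    have key : shiftNat Y r = (ARSys.shift C r).map s ≫ e.inv := by
      rw [← cancel_mono e.hom, Category.assoc, e.inv_hom_id, Category.comp_id]
      ext ⟨n⟩
      change tr Y (Nat.le_add_right n r) ≫ e.hom.app (op n) = s.app (op (n + r))
      rw [nat_shift' e.hom, he]
      rfl
    refine ⟨_, shiftNat X r, trClass_shiftNat X r, ?_⟩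
    rw [shiftNat_naturality, shiftNat_naturality, key, ← Category.assoc, ← Category.assoc,
      ← Functor.map_comp, ← Functor.map_comp, h]

section Left

variable [Abelian C] (Y : PS C) (r : ℕ)

/-- Precomposition with truncated subtraction. -/
def subF : ℕ ⥤ ℕ := Monotone.functor (f := fun n : ℕ => n - r) fun _ _ h => Nat.sub_le_sub_right h r

/-- The unmasked translate. -/
abbrev down : PS C := (subF r).op ⋙ Y

/-- Zero below `r`. -/
noncomputable def mask (n : ℕ) : Subobject ((down Y r).obj (op n)) := if r ≤ n then ⊥ else ⊤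

theorem img_mask (n m : ℕ) (h : n ≤ m) : img (tr (down Y r) h) (mask Y r m) ≤ mask Y r n := by
  by_cases hn : r ≤ n
  · rw [mask, if_pos (hn.trans h), img_bot]; exact bot_le
  · rw [mask.eq_def Y r n, if_neg hn]; exact le_top

/-- The translate in the negative direction, extended by zero. -/
noncomputable def unshift : PS C := cokernel (subι (down Y r) (mask Y r) (img_mask Y r))

/-- The translation map. -/
noncomputable def toUnshift : Y ⟶ unshift Y r :=
  ({ app := fun n => tr Y (Nat.sub_le n.unop r)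
     naturality := fun n m φ => by
      change tr Y φ.unop.le ≫ tr Y _ = tr Y _ ≫ tr Y (Nat.sub_le_sub_right φ.unop.le r)
      rw [tr_tr, tr_tr] } : Y ⟶ down Y r) ≫ cokernel.π _

variable {Y r}

theorem unshift_zero {n : ℕ} (h : n < r) : IsZero ((unshift Y r).obj (op n)) := by
  have hp := epi_app (cokernel.π (subι (down Y r) (mask Y r) (img_mask Y r))) (op n)
  refine (IsZero.iff_id_eq_zero _).2
    ((cancel_epi ((cokernel.π (subι (down Y r) (mask Y r) (img_mask Y r))).app (op n))).1 ?_)
  change _ ≫ 𝟙 _ = _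
  rw [comp_zero, Category.comp_id, eq_zero_iff_ker, ker_cokernel_app, rng_subι, mask,
    if_neg (by omega)]

theorem isIso_toUnshift {n : ℕ} (h : r ≤ n) :
    IsIso ((cokernel.π (subι (down Y r) (mask Y r) (img_mask Y r))).app (op n)) := by
  haveI := epi_app (cokernel.π (subι (down Y r) (mask Y r) (img_mask Y r))) (op n)
  haveI : Mono ((cokernel.π (subι (down Y r) (mask Y r) (img_mask Y r))).app (op n)) :=
    (mono_iff_ker _).2 (by rw [ker_cokernel_app, rng_subι, mask, if_pos h])
  exact isIso_of_mono_of_epi _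

variable (Y r)

theorem trClass_toUnshift : ARSys.trClass (toUnshift Y r) := by
  let q := cokernel.π (subι (down Y r) (mask Y r) (img_mask Y r))
  have hcomp : ∀ n : ℕ, IsIso (tr Y (show n + r - r ≤ n by omega) ≫ q.app (op (n + r))) :=
    fun n => by
    haveI := isIso_toUnshift (Y := Y) (r := r) (Nat.le_add_left r n)
    haveI := isIso_tr_of_eq Y (show n + r - r ≤ n by omega) (by omega)
    infer_instance
  let e : Y ≅ (ARSys.shift C r).obj (unshift Y r) :=
    NatIso.ofComponents (fun n => haveI := hcomp n.unop; asIso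
      (tr Y (show n.unop + r - r ≤ n.unop by omega) ≫ q.app (op (n.unop + r)))) (fun {n m} φ => by
        change tr Y φ.unop.le ≫ tr Y _ ≫ q.app _ =
          (tr Y _ ≫ q.app _) ≫ tr (unshift Y r) (Nat.add_le_add_right φ.unop.le r)
        rw [Category.assoc]
        erw [← q.naturality]
        change _ = _ ≫ tr Y (Nat.sub_le_sub_right (Nat.add_le_add_right φ.unop.le r) r) ≫ _
        rw [tr_tr_assoc, tr_tr_assoc])
  refine ⟨r, e, fun n => ?_⟩
  change tr Y (Nat.sub_le n r) ≫ q.app (op n) =
    (tr Y _ ≫ q.app (op (n + r))) ≫ tr (unshift Y r) (Nat.le_add_right n r)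
  rw [Category.assoc]
  erw [← q.naturality]
  change _ = _ ≫ tr Y (Nat.sub_le_sub_right (Nat.le_add_right n r) r) ≫ _
  rw [tr_tr_assoc]

theorem toUnshift_app (n : ℕ) : (toUnshift Y r).app (op n) = tr Y (Nat.sub_le n r) ≫
    (cokernel.π (subι (down Y r) (mask Y r) (img_mask Y r))).app (op n) := rfl

theorem hasLeftCalculus : (ARSys.trClass (C := C)).HasLeftCalculusOfFractions where
  toIsMultiplicative := isMultiplicative_trClass
  exists_leftFraction {X Y} φ := by
    obtain ⟨r, e, he⟩ := (trClass_iff φ.s).1 φ.hs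
    let q := cokernel.π (subι (down Y r) (mask Y r) (img_mask Y r))
    let g : ∀ n : ℕ, X.obj (op n) ⟶ (unshift Y r).obj (op n) := fun n =>
      if h : r ≤ n then tr X (show n - r + r ≤ n by omega) ≫ e.inv.app (op (n - r)) ≫
        φ.f.app (op (n - r)) ≫ q.app (op n) else 0
    refine ⟨⟨{ app := fun n => g n.unop, naturality := fun n m ψ => ?_ }, toUnshift Y r,
      trClass_toUnshift Y r⟩, NatTrans.ext (funext fun ⟨n⟩ => ?_)⟩
    · by_cases hm : r ≤ m.unop
      · have hn : r ≤ n.unop := hm.trans ψ.unop.le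
        change tr X ψ.unop.le ≫ g m.unop = g n.unop ≫ tr (unshift Y r) ψ.unop.le
        simp only [g, dif_pos hm, dif_pos hn, Category.assoc]
        erw [← q.naturality]
        change _ = _ ≫ _ ≫ _ ≫ tr Y (Nat.sub_le_sub_right ψ.unop.le r) ≫ _
        rw [tr_tr_assoc, ← Category.assoc (φ.f.app _) (tr Y _), ← tr_nat, Category.assoc,
          ← Category.assoc (e.inv.app _) (tr _ _),
          ← nat_shift e.inv (Nat.sub_le_sub_right ψ.unop.le r), Category.assoc, tr_tr_assoc]
      · exact (unshift_zero (by omega)).eq_of_tgt _ _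
    · by_cases hn : r ≤ n
      · change φ.f.app (op n) ≫ (toUnshift Y r).app (op n) = φ.s.app (op n) ≫ g n
        simp only [g, dif_pos hn, toUnshift_app, q]
        rw [← Category.assoc (φ.f.app (op n)), ← tr_nat, Category.assoc, he]
        change _ = (e.hom.app (op n) ≫ tr X (Nat.le_add_right n r)) ≫ _
        rw [Category.assoc, tr_tr_assoc, ← Category.assoc (tr X _) (e.inv.app _),
          nat_shift e.inv (Nat.sub_le n r)]
        simp only [← Category.assoc]
        rw [← NatTrans.comp_app e.hom, e.hom_inv_id]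
        simp
      · exact (unshift_zero (by omega)).eq_of_tgt _ _
  ext {X' X Y} f₁ f₂ s hs h := by
    obtain ⟨r, e, he⟩ := (trClass_iff s).1 hs
    refine ⟨_, toUnshift Y r, trClass_toUnshift Y r, NatTrans.ext (funext fun ⟨n⟩ => ?_)⟩
    by_cases hn : r ≤ n
    · have key : ∀ f : X ⟶ Y, (f ≫ toUnshift Y r).app (op n) =
          (tr X (show n - r + r ≤ n by omega) ≫ e.inv.app (op (n - r))) ≫
            (s ≫ f).app (op (n - r)) ≫
              (cokernel.π (subι (down Y r) (mask Y r) (img_mask Y r))).app (op n) := fun f => by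
        rw [NatTrans.comp_app, toUnshift_app, ← Category.assoc, ← tr_nat, NatTrans.comp_app, he]
        change _ = _ ≫ ((e.hom.app _ ≫ tr X _) ≫ _) ≫ _
        simp only [Category.assoc]
        rw [← Category.assoc (e.inv.app _) (e.hom.app _), ← NatTrans.comp_app, e.inv_hom_id,
          NatTrans.id_app, Category.id_comp, tr_tr_assoc]
      rw [key, key, h]
    · exact (unshift_zero (by omega)).eq_of_tgt _ _

end Left

theorem isIso_limMap [Abelian C] [HasLimitsOfShape ℕᵒᵖ C] {X Y : PS C} (u : X ⟶ Y)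
    (hu : ARSys.IsARIso u) : IsIso (limMap u) := by
  obtain ⟨r, v, hv⟩ := exists_inv hu
  let c : Cone X :=
    { pt := limit Y
      π := { app := fun n => limit.π Y (op (n.unop + r)) ≫ v.app n.unop (n.unop + r) le_rfl
             naturality := fun n m φ => by
              change 𝟙 _ ≫ _ = (_ ≫ _) ≫ tr X φ.unop.le
              rw [Category.id_comp, Category.assoc,
                v.post m.unop n.unop (n.unop + r) φ.unop.le le_rfl
                  (Nat.add_le_add_right φ.unop.le r),
                ← v.pre m.unop (m.unop + r) (n.unop + r) le_rfl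
                  (Nat.add_le_add_right φ.unop.le r),
                ← Category.assoc (limit.π Y _)]
              exact congrArg (· ≫ _) (limit.w Y _).symm } }
  refine ⟨⟨limit.lift X c, ?_, ?_⟩⟩
  · refine limit.hom_ext fun n => ?_
    rw [Category.assoc, limit.lift_π, Category.id_comp]
    change limMap u ≫ limit.π Y _ ≫ _ = _
    rw [limMap_π_assoc, hv.uv]
    exact limit.w X _
  · refine limit.hom_ext fun n => ?_
    rw [Category.assoc, limMap_π, limit.lift_π_assoc, Category.id_comp]
    change (limit.π Y _ ≫ _) ≫ u.app (op n.unop) = _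
    rw [Category.assoc, hv.vu]
    exact limit.w Y _

section Inj

variable {A : Type u} [Category.{v} A] [Abelian A]

open ZeroObject

/-- Iterated biproducts. -/
noncomputable def tower (J : ℕ → A) : ℕ → A
  | 0 => J 0
  | n + 1 => tower J n ⊞ J (n + 1)

/-- The projections. -/
noncomputable def towerπ (J : ℕ → A) (n : ℕ) : tower J (n + 1) ⟶ tower J n :=
  (biprod.fst : tower J n ⊞ J (n + 1) ⟶ tower J n)

/-- The last projection. -/
noncomputable def towerSnd (J : ℕ → A) : ∀ n : ℕ, tower J n ⟶ J n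
  | 0 => 𝟙 (J 0)
  | n + 1 => (biprod.snd : tower J n ⊞ J (n + 1) ⟶ J (n + 1))

theorem enoughInjectives_iff : EnoughInjectives (ℕᵒᵖ ⥤ A) ↔ EnoughInjectives A := by
  constructor
  · intro _
    refine ⟨fun M => ?_⟩
    let F : A → (ℕ → A) := fun M n => match n with | 0 => M | _ + 1 => 0
    let L : A → (ℕᵒᵖ ⥤ A) := fun M => Functor.ofOpSequence (X := F M) (fun n => 0)
    have hL : ∀ {M N : A} (f : M ⟶ N), ∃ φ : L M ⟶ L N, φ.app (op 0) = f ∧
        ∀ n : ℕ, IsZero ((L M).obj (op (n + 1))) := fun {M N} f =>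
      ⟨NatTrans.ofOpSequence (fun n => match n with | 0 => f | _ + 1 => 0)
        (fun n => (isZero_zero A).eq_of_src _ _), rfl, fun n => isZero_zero A⟩
    have hext : ∀ {M : A} {X : ℕᵒᵖ ⥤ A} (f : M ⟶ X.obj (op 0)),
        ∃ φ : L M ⟶ X, φ.app (op 0) = f := fun {M X} f =>
      ⟨NatTrans.ofOpSequence (fun n => match n with | 0 => f | _ + 1 => 0)
        (fun n => (isZero_zero A).eq_of_src _ _), rfl⟩
    let I := Injective.under (L M)
    haveI := mono_app (Injective.ι (L M)) (op 0)
    refine ⟨{ J := I.obj (op 0)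
              injective := ⟨fun {P Q} f g _ => ?_⟩
              f := (Injective.ι (L M)).app (op 0)
              mono := inferInstance }⟩
    obtain ⟨φ, hφ, hz⟩ := hL g
    haveI : ∀ n, Mono (φ.app n) := fun ⟨n⟩ => by
      cases n with
      | zero => rw [hφ]; infer_instance
      | succ n => exact ⟨fun a b _ => (hz n).eq_of_tgt a b⟩
    haveI : Mono φ := NatTrans.mono_of_mono_app _
    obtain ⟨ψ, hψ⟩ := hext f
    refine ⟨(Injective.factorThru ψ φ).app (op 0), ?_⟩
    rw [← hφ, ← hψ]
    exact congrArg (fun t => t.app (op 0)) (Injective.comp_factorThru ψ φ)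
  · intro _
    refine ⟨fun X => ?_⟩
    let J : ℕ → A := fun n => Injective.under (X.obj (op n))
    let E : ℕ → A := tower J
    let EE : ℕᵒᵖ ⥤ A := Functor.ofOpSequence (towerπ J)
    have hEE : ∀ n : ℕ, EE.map (homOfLE (Nat.le_add_right n 1)).op = towerπ J n :=
      fun n => Functor.ofOpSequence_map_homOfLE_succ _ n
    let pr : ∀ n, E n ⟶ J n := towerSnd J
    have hex : ∀ (Y : ℕᵒᵖ ⥤ A) (f : ∀ n, Y.obj (op n) ⟶ J n),
        ∃ Φ : Y ⟶ EE, ∀ n, Φ.app (op n) ≫ pr n = f n := fun Y f => by
      let app : ∀ n, Y.obj (op n) ⟶ E n := fun n => Nat.rec (motive := fun n => Y.obj (op n) ⟶ E n)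
        (f 0) (fun k a => biprod.lift (tr Y (Nat.le_succ k) ≫ a) (f (k + 1))) n
      refine ⟨NatTrans.ofOpSequence app fun n => ?_, fun n => ?_⟩
      · rw [hEE]
        change _ = biprod.lift (tr Y (Nat.le_succ n) ≫ app n) (f (n + 1)) ≫ biprod.fst
        rw [biprod.lift_fst]
      · cases n with
        | zero => exact Category.comp_id _
        | succ n => exact biprod.lift_snd _ _
    have huniq : ∀ (Y : ℕᵒᵖ ⥤ A) (Φ Ψ : Y ⟶ EE),
        (∀ n, Φ.app (op n) ≫ pr n = Ψ.app (op n) ≫ pr n) → Φ = Ψ := fun Y Φ Ψ h => by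
      ext ⟨n⟩
      induction n with
      | zero => exact ((Category.comp_id _).symm.trans (h 0)).trans (Category.comp_id _)
      | succ n ih =>
        refine biprod.hom_ext _ _ ?_ (h (n + 1))
        change Φ.app (op (n + 1)) ≫ towerπ J n = Ψ.app (op (n + 1)) ≫ towerπ J n
        rw [← hEE]
        erw [← Φ.naturality, ← Ψ.naturality]
        rw [ih]
    haveI : Injective EE := ⟨fun {P Q} f g _ => by
      choose t ht using fun n => haveI := mono_app g (op n)
        (⟨Injective.factorThru (f.app (op n) ≫ pr n) (g.app (op n)),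
          Injective.comp_factorThru _ _⟩ : ∃ t, g.app (op n) ≫ t = f.app (op n) ≫ pr n)
      obtain ⟨Φ, hΦ⟩ := hex Q t
      exact ⟨Φ, huniq P _ _ fun n => by rw [NatTrans.comp_app, Category.assoc, hΦ, ht]⟩⟩
    obtain ⟨Φ, hΦ⟩ := hex X fun n => Injective.ι (X.obj (op n))
    haveI : ∀ n, Mono (Φ.app n) := fun ⟨n⟩ =>
      haveI : Mono (Φ.app (op n) ≫ pr n) := by rw [hΦ]; infer_instance
      mono_of_mono _ (pr n)
    haveI : Mono Φ := NatTrans.mono_of_mono_app _
    exact ⟨{ J := EE, injective := inferInstance, f := Φ, mono := inferInstance }⟩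

end Inj

end Groth.Agent.ARLib
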