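import Groth.Agent.ARLib.Sub

/-! Subobjects in functor categories, double chains. -/

set_option backward.isDefEq.respectTransparency false
set_option backward.isDefEq.respectTransparency.types false
set_option autoImplicit false
set_option linter.style.haveILetI false

universe v u w

open CategoryTheory CategoryTheory.Limits

namespace Groth.Agent.ARLib

variable {C : Type u} [Category.{v} C] [Abelian C]

section
variable {J : Type w} [Category J] {X : J ⥤ C}

theorem funMono {A B : J ⥤ C} (f : A ⟶ B) [Mono f] (j : J) : Mono (f.app j) :=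
  inferInstanceAs (Mono (((evaluation J C).obj j).map f))

theorem exists_lift_nat {A B : J ⥤ C} (g : B ⟶ X) [Mono g] (f : A ⟶ X)
    (h : ∀ j, rng (f.app j) ≤ rng (g.app j)) : ∃ k : A ⟶ B, k ≫ g = f := by
  choose k hk using fun j => @exists_lift _ _ _ _ _ _ (g.app j) (funMono g j) (f.app j) (h j)
  refine ⟨{ app := k, naturality := fun i j φ => ?_ }, ?_⟩
  · haveI := funMono g j
    rw [← cancel_mono (g.app j), Category.assoc, hk, f.naturality, Category.assoc, g.naturality,
      ← Category.assoc, hk]
  · ext j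
    exact hk j

/-- The component of a subobject in a functor category. -/
noncomputable def comp' (S : Subobject X) (j : J) : Subobject (X.obj j) := rng (S.arrow.app j)

theorem comp'_mono {S T : Subobject X} (h : S ≤ T) (j : J) : comp' S j ≤ comp' T j := by
  have e : S.arrow.app j = (Subobject.ofLE S T h).app j ≫ T.arrow.app j := by
    rw [← NatTrans.comp_app, Subobject.ofLE_arrow]
  change rng (S.arrow.app j) ≤ _
  rw [e, rng_comp]
  exact img_mono _ le_top

theorem le_of_comp' {S T : Subobject X} (h : ∀ j, comp' S j ≤ comp' T j) : S ≤ T := by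
  obtain ⟨k, hk⟩ := exists_lift_nat T.arrow S.arrow h
  exact Subobject.le_of_comm k hk

theorem img_comp' (S : Subobject X) {i j : J} (φ : i ⟶ j) :
    img (X.map φ) (comp' S i) ≤ comp' S j := by
  change img (X.map φ) (rng (S.arrow.app i)) ≤ rng (S.arrow.app j)
  rw [← rng_comp, ← S.arrow.naturality, rng_comp]
  exact img_mono _ le_top

theorem comp'_mk {A : J ⥤ C} (f : A ⟶ X) [Mono f] (j : J) :
    comp' (Subobject.mk f) j = rng (f.app j) := by
  change rng ((Subobject.mk f).arrow.app j) = _
  rw [show (Subobject.mk f).arrow = (Subobject.underlyingIso f).hom ≫ f from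
    (Subobject.underlyingIso_hom_comp_eq_mk f).symm, NatTrans.comp_app, rng_comp]
  haveI : IsIso ((Subobject.underlyingIso f).hom.app j) := inferInstance
  rw [rng_of_epi]

theorem comp'_top (j : J) : comp' (⊤ : Subobject X) j = ⊤ := by
  haveI : IsIso ((⊤ : Subobject X).arrow.app j) := inferInstance
  exact rng_of_epi _

section SubFun
variable (X) (S : ∀ j, Subobject (X.obj j))
  (hS : ∀ ⦃i j⦄ (φ : i ⟶ j), img (X.map φ) (S i) ≤ S j)

include hS in
theorem subFun_factors {i j : J} (φ : i ⟶ j) : (S j).Factors ((S i).arrow ≫ X.map φ) :=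
  Subobject.factors_of_le _ (hS φ) (factors_img (Subobject.factors_self _))

/-- The subfunctor given by stable subobjects. -/
noncomputable def subFun : J ⥤ C where
  obj j := (S j : C)
  map {i j} φ := (S j).factorThru _ (subFun_factors X S hS φ)
  map_id j := by
    rw [← cancel_mono (S j).arrow]
    simp
  map_comp {i j k} f g := by
    rw [← cancel_mono (S k).arrow]
    simp

/-- Its inclusion. -/
noncomputable def subFunι : subFun X S hS ⟶ X where
  app j := (S j).arrow
  naturality _ _ φ := Subobject.factorThru_arrow _ _ (subFun_factors X S hS φ)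

instance (j : J) : Mono ((subFunι X S hS).app j) := by
  change Mono (S j).arrow
  infer_instance

instance : Mono (subFunι X S hS) := NatTrans.mono_of_mono_app _

theorem comp'_subFun (j : J) : comp' (Subobject.mk (subFunι X S hS)) j = S j :=
  (comp'_mk _ j).trans (rng_arrow (S j))

end SubFun
end

theorem stationary_double {α : Type*} [PartialOrder α]
    (H : ∀ f : ℕ →o α, ∃ n, ∀ m, n ≤ m → f n = f m) (f : ℕ → ℕ → α)
    (hf : ∀ {i j k l}, i ≤ j → k ≤ l → f i k ≤ f j l) :
    ∃ k₀, ∀ i k, k₀ ≤ k → f i k = f i k₀ := by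
  obtain ⟨n₀, hn₀⟩ := H ⟨fun n => f n n, fun _ _ h => hf h h⟩
  choose t ht using fun i => H ⟨fun k => f i k, fun _ _ h => hf le_rfl h⟩
  refine ⟨max n₀ ((Finset.range n₀).sup t), fun i k hk => ?_⟩
  rcases lt_or_ge i n₀ with hi | hi
  · have hti : t i ≤ max n₀ ((Finset.range n₀).sup t) :=
      le_max_of_le_right (Finset.le_sup (Finset.mem_range.2 hi))
    exact (ht i k (hti.trans hk)).symm.trans (ht i _ hti)
  · have key : ∀ k, n₀ ≤ k → f i k = f n₀ n₀ := fun k hk =>
      le_antisymm ((hf (le_max_left i k) (le_max_right i k)).trans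
        (hn₀ (max i k) (hk.trans (le_max_right i k))).ge) (hf hi hk)
    rw [key k ((le_max_left _ _).trans hk), key _ (le_max_left _ _)]

/-- Constant diagrams on a noetherian object. -/
theorem noeth_const (M : C) [IsNoetherianObject M] :
    IsNoetherianObject ((Functor.const ℕ).obj M : ℕ ⥤ C) := by
  rw [isNoetherianObject_iff_monotone_chain_condition]
  intro N
  have hcol : ∀ (k : ℕ) {i j : ℕ}, i ≤ j →
      (comp' (N k) i : Subobject M) ≤ comp' (N k) j := fun k i j h => by
    have := img_comp' (N k) (homOfLE h)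
    simpa [img_id] using this
  obtain ⟨k₀, hk₀⟩ := stationary_double (monotone_chain_condition_of_isNoetherianObject (X := M))
    (fun i k => (comp' (N k) i : Subobject M))
    (fun {i j k l} h h' => (hcol k h).trans (comp'_mono (N.2 h') j))
  exact ⟨k₀, fun k hk => le_antisymm (N.2 hk) (le_of_comp' fun i => (hk₀ i k hk).le)⟩

theorem exists_eq_top_const (M : C)
    (hM : ∀ N : ℕ →o Subobject M, IsLUB (Set.range N) ⊤ → ∃ p : ℕ, N p = ⊤)
    (N : ℕ →o Subobject ((Functor.const ℕ).obj M : ℕ ⥤ C)) (hN : IsLUB (Set.range N) ⊤) :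
    ∃ p : ℕ, N p = ⊤ := by
  classical
  have hcol : ∀ (k : ℕ) {i j : ℕ}, i ≤ j →
      (comp' (N k) i : Subobject M) ≤ comp' (N k) j := fun k i j h => by
    have := img_comp' (N k) (homOfLE h)
    simpa [img_id] using this
  have hub : ∀ (n₀ : ℕ) (T : Subobject M), (∀ k, (comp' (N k) n₀ : Subobject M) ≤ T) → T = ⊤ := by
    intro n₀ T hT
    let U : ℕ → Subobject M := fun n => if n ≤ n₀ then T else ⊤
    have hU : ∀ ⦃i j : ℕ⦄ (φ : i ⟶ j),
        img (((Functor.const ℕ).obj M).map φ) (U i) ≤ U j := fun i j φ => by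
      have hij : i ≤ j := leOfHom φ
      change img (𝟙 M) (U i) ≤ U j
      rw [img_id]
      simp only [U]
      split_ifs with h1 h2
      · exact le_rfl
      · exact le_top
      · omega
      · exact le_rfl
    have htop : (⊤ : Subobject ((Functor.const ℕ).obj M : ℕ ⥤ C)) ≤
        Subobject.mk (subFunι ((Functor.const ℕ).obj M) U hU) := by
      refine hN.2 ?_
      rintro _ ⟨k, rfl⟩
      refine le_of_comp' fun n => ?_
      rw [comp'_subFun]
      simp only [U]
      split_ifs with h
      · exact (hcol k h).trans (hT k)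
      · exact le_top
    have := comp'_mono htop n₀
    rw [comp'_top, comp'_subFun] at this
    simpa [U] using this
  have hlub : ∀ f : ℕ →o Subobject M, (∀ T, (∀ k, f k ≤ T) → T = ⊤) → ∃ p, f p = ⊤ :=
    fun f hf => hM f ⟨fun _ _ => le_top, fun T hT => (hf T fun k => hT ⟨k, rfl⟩).ge⟩
  obtain ⟨p, hp⟩ := hlub ⟨fun k => comp' (N k) k, fun i j h =>
    (hcol i h).trans (comp'_mono (N.2 h) j)⟩ fun T hT =>
      hub 0 T fun k => (hcol k (Nat.zero_le k)).trans (hT k)
  choose t ht using fun i => hlub ⟨fun k => comp' (N k) i, fun _ _ h => comp'_mono (N.2 h) i⟩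
    fun T hT => hub i T hT
  refine ⟨max p ((Finset.range p).sup t), top_le_iff.1 (le_of_comp' fun i => ?_)⟩
  rw [comp'_top]
  rcases lt_or_ge i p with hi | hi
  · exact (ht i).ge.trans
      (comp'_mono (N.2 (le_max_of_le_right (Finset.le_sup (Finset.mem_range.2 hi)))) i)
  · exact hp.ge.trans ((hcol p hi).trans (comp'_mono (N.2 (le_max_left _ _)) i))

end Groth.Agent.ARLib
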