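import Groth.Agent.ARLib.Ext
import Groth.Agent.ARLib.Fun

/-! Strict graded objects: the ascending chain condition, finite type implies adicity. -/

set_option backward.isDefEq.respectTransparency false
set_option backward.isDefEq.respectTransparency.types false
set_option autoImplicit false
set_option linter.style.haveILetI false

universe w v u

open CategoryTheory CategoryTheory.Limits Opposite

namespace Groth.Agent.ARLib

variable {C : Type u} [Category.{v} C] [Abelian C]

theorem img_inf_pre {X Y : C} (f : X ⟶ Y) (S : Subobject X) (T : Subobject Y) :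
    img f S ⊓ T = img f (S ⊓ pre f T) := by
  refine le_antisymm (le_of_forall fun W h hh => ?_)
    (le_inf (img_mono f inf_le_left) ((img_mono f inf_le_right).trans ((gc f).l_u_le T)))
  obtain ⟨h1, h2⟩ := (Subobject.inf_factors _).1 hh
  obtain ⟨W', π, hπ, k, hk, e⟩ := exists_of_factors_img h1
  refine AbJH.factors_of_epi π _ (e ▸ factors_img ((Subobject.inf_factors _).2
    ⟨hk, (pre_factors_iff f T k).2 ?_⟩))
  rw [← e]
  exact Subobject.factors_of_factors_right _ h2

section Hilbert

variable {E : ℕ → C} {ι : Type*} (φ : ι → ∀ q, E q ⟶ E (q + 1))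

theorem graded_acc [h0 : IsNoetherianObject (E 0)]
    (hcomm : ∀ a b q, φ a q ≫ φ b (q + 1) = φ b q ≫ φ a (q + 1)) (s : Finset ι) :
    ∀ F : ∀ q, Subobject (E q), (∀ q, F (q + 1) = s.sup fun a => img (φ a q) (F q)) →
    ∀ M : ℕ →o (∀ q, Subobject (E q)), (∀ k, M k ≤ F) →
      (∀ k, ∀ a ∈ s, ∀ q, img (φ a q) (M k q) ≤ M k (q + 1)) →
      ∃ k₀, ∀ k, k₀ ≤ k → M k = M k₀ := by
  classical
  induction s using Finset.induction with
  | empty =>
    intro F hF M hM _
    obtain ⟨k₀, hk₀⟩ := monotone_chain_condition_of_isNoetherianObject (X := E 0)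
      ⟨fun k => M k 0, fun _ _ h => M.2 h 0⟩
    refine ⟨k₀, fun k hk => funext fun q => ?_⟩
    cases q with
    | zero => exact (hk₀ k hk).symm
    | succ q =>
      have hb : ∀ j, M j (q + 1) = ⊥ := fun j =>
        le_bot_iff.1 ((hM j (q + 1)).trans (by rw [hF, Finset.sup_empty]))
      rw [hb, hb]
  | @insert x s _ IH =>
    intro F hF M hM hst
    let N : ∀ q, Subobject (E q) := fun q =>
      Nat.rec (motive := fun q => Subobject (E q)) (F 0)
        (fun q Nq => s.sup fun a => img (φ a q) Nq) q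
    have hN0 : N 0 = F 0 := rfl
    have hN : ∀ q, N (q + 1) = s.sup fun a => img (φ a q) (N q) := fun q => rfl
    have hFst : ∀ a ∈ insert x s, ∀ q, img (φ a q) (F q) ≤ F (q + 1) := fun a ha q => by
      rw [hF]; exact Finset.le_sup (f := fun a => img (φ a q) (F q)) ha
    have hFx : ∀ q, F (q + 1) ≤ N (q + 1) ⊔ img (φ x q) (F q) := by
      intro q
      induction q with
      | zero =>
        rw [hF, Finset.sup_insert, hN, hN0, sup_comm]
      | succ q ih =>
        rw [hF (q + 1), Finset.sup_insert]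
        refine sup_le le_sup_right (Finset.sup_le fun a ha => ?_)
        refine (img_mono _ ih).trans ?_
        rw [img_sup, img_img, hcomm, ← img_img]
        refine sup_le_sup ?_ (img_mono _ (hFst a (Finset.mem_insert_of_mem ha) q))
        rw [hN (q + 1)]
        exact Finset.le_sup (f := fun a => img (φ a (q + 1)) (N (q + 1))) ha
    let S : (∀ q, Subobject (E q)) → ∀ q, Subobject (E q) := fun V q =>
      pre (φ x q) (V (q + 1) ⊔ N (q + 1))
    have hS : Monotone S := fun V V' h q => pre_mono _ (sup_le_sup_right (h (q + 1)) _)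
    let L : ℕ → ℕ → ∀ q, Subobject (E q) := fun i k => S^[i] (M k)
    have hL0 : ∀ k, L 0 k = M k := fun k => rfl
    have hLs : ∀ i k, L (i + 1) k = S (L i k) := fun i k => Function.iterate_succ_apply' S i (M k)
    have hLk : ∀ i {k l}, k ≤ l → L i k ≤ L i l := fun i k l h => (hS.iterate i) (M.2 h)
    have hLi : ∀ k, Monotone fun i => L i k := fun k => monotone_nat_of_le_succ fun i => by
      induction i with
      | zero =>
        rw [hL0, hLs, hL0]
        exact fun q => img_le_iff.1
          ((hst k x (Finset.mem_insert_self x s) q).trans le_sup_left)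
      | succ i ih => rw [hLs i k, hLs (i + 1) k]; exact hS ih
    have hLst : ∀ i k, ∀ a ∈ s, ∀ q, img (φ a q) (L i k q) ≤ L i k (q + 1) := by
      intro i
      induction i with
      | zero => exact fun k a ha q => hst k a (Finset.mem_insert_of_mem ha) q
      | succ i ih =>
        intro k a ha q
        rw [hLs]
        refine img_le_iff.2 ?_
        simp only [S]
        rw [pre_pre, hcomm, ← pre_pre]
        refine pre_mono _ (img_le_iff.1 ?_)
        rw [img_sup]
        refine sup_le_sup (ih k a ha (q + 1)) ?_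
        rw [hN (q + 1)]
        exact Finset.le_sup (f := fun a => img (φ a (q + 1)) (N (q + 1))) ha
    let α := {V : ∀ q, Subobject (E q) //
      V ≤ N ∧ ∀ a ∈ s, ∀ q, img (φ a q) (V q) ≤ V (q + 1)}
    have hα : ∀ f : ℕ →o α, ∃ n, ∀ m, n ≤ m → f n = f m := fun f => by
      obtain ⟨n, hn⟩ := IH N hN ⟨fun k => (f k).1, fun _ _ h => f.2 h⟩ (fun k => (f k).2.1)
        fun k => (f k).2.2
      exact ⟨n, fun m hm => Subtype.ext (hn m hm).symm⟩
    let G : ℕ → ℕ → α := fun i k => ⟨fun q => L i k q ⊓ N q, fun q => inf_le_right,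
      fun a ha q => le_inf ((img_mono _ inf_le_left).trans (hLst i k a ha q))
        ((img_mono _ inf_le_right).trans
          (by rw [hN]; exact Finset.le_sup (f := fun a => img (φ a q) (N q)) ha))⟩
    obtain ⟨k₀, hk₀⟩ := stationary_double hα G fun {i j k l} h h' => fun q =>
      inf_le_inf_right _ ((hLi k h q).trans (hLk j h' q))
    refine ⟨k₀, fun k hk => le_antisymm (fun q => ?_) (M.2 hk)⟩
    have hG : ∀ i q, L i k q ⊓ N q = L i k₀ q ⊓ N q := fun i q =>
      congrFun (congrArg Subtype.val (hk₀ i k hk)) q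
    have key : ∀ q i, L i k q ⊓ F q ≤ L i k₀ q := by
      intro q
      induction q with
      | zero => intro i; rw [← hN0, hG]; exact inf_le_left
      | succ q ih =>
        intro i
        have h1 : L i k (q + 1) ⊓ F (q + 1) ≤ L i k₀ (q + 1) ⊔ N (q + 1) := by
          refine (inf_le_inf (le_sup_left (b := N (q + 1))) (hFx q)).trans ?_
          rw [inf_comm]
          refine (IsModularLattice.sup_inf_le_assoc_of_le _ le_sup_right).trans ?_
          refine sup_le le_sup_right ?_
          rw [img_inf_pre]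
          refine img_le_iff.2 ?_
          have e := ih (i + 1)
          rw [hLs, hLs, inf_comm] at e
          exact e
        calc L i k (q + 1) ⊓ F (q + 1)
            ≤ (L i k₀ (q + 1) ⊔ N (q + 1)) ⊓ L i k (q + 1) := le_inf h1 inf_le_left
          _ ≤ L i k₀ (q + 1) ⊔ N (q + 1) ⊓ L i k (q + 1) :=
              IsModularLattice.sup_inf_le_assoc_of_le _ (hLk i hk (q + 1))
          _ ≤ L i k₀ (q + 1) := sup_le le_rfl (by rw [inf_comm, hG]; exact inf_le_left)
    exact (le_inf le_rfl (hM k q)).trans (key q 0)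

end Hilbert

section Fsub

open ARSys (PS tr)

variable (X : PS C)

theorem fsub_zero (n : ℕ) : ARSys.Fsub X 0 n = ⊤ := rfl

theorem fsub_succ {k n : ℕ} (h : k ≤ n) : ARSys.Fsub X (k + 1) n = ker (tr X h) := by
  rw [ARSys.Fsub, dif_pos h, kernelSubobject_eq]

theorem fsub_bot {q n : ℕ} (h : n < q) : ARSys.Fsub X q n = ⊥ := by
  obtain ⟨k, rfl⟩ : ∃ k, q = k + 1 := ⟨q - 1, by omega⟩
  rcases lt_or_ge n k with h' | h'
  · rw [ARSys.Fsub, dif_neg (by omega)]
  · obtain rfl : k = n := by omega
    haveI : Mono (tr X h') := by rw [tr_rfl]; infer_instance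
    rw [fsub_succ X h', ker_of_mono]

theorem pre_fsub {q m n : ℕ} (hq : q ≤ m + 1) (h : m ≤ n) :
    pre (tr X h) (ARSys.Fsub X q m) = ARSys.Fsub X q n := by
  cases q with
  | zero => rw [fsub_zero, fsub_zero, pre_top]
  | succ k =>
    rw [fsub_succ X (show k ≤ m by omega), fsub_succ X (show k ≤ n by omega), ← ker_comp, tr_tr]

variable {A : Type w} [CommRing A] [Linear A C] {J : Ideal A}

theorem adapted_iff : ARSys.IsAdapted J X ↔
    ∀ n p, p ≤ n + 1 → ∀ a ∈ J ^ p, act a (ARSys.Fsub X (n + 1 - p) n) = ⊥ := by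
  refine forall_congr' fun n => forall₄_congr fun p _ a _ => ?_
  rw [eq_zero_iff_rng, rng_comp, rng_arrow]
  rfl

variable {X}

theorem act_fsub_le (hA : ARSys.IsAdapted J X) {n p q : ℕ} {a : A} (ha : a ∈ J ^ p) :
    act a (ARSys.Fsub X q n) ≤ ARSys.Fsub X (p + q) n := by
  rcases hk : p + q with _ | j
  · rw [fsub_zero]; exact le_top
  rcases le_or_gt j n with hjn | hjn
  · rw [fsub_succ X hjn]
    refine img_eq_bot_iff.1 (le_bot_iff.1 ?_)
    rw [img_act, ← pre_fsub X (show q ≤ j + 1 by omega) hjn,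
      ← (adapted_iff X).1 hA j p (by omega) a ha, show j + 1 - p = q by omega]
    exact act_mono a ((gc _).l_u_le _)
  · rcases lt_or_ge n q with hq | hq
    · rw [fsub_bot X hq]; exact (act_le a ⊥).trans bot_le
    · have := (adapted_iff X).1 hA n (n + 1 - q) (by omega) a
        (Ideal.pow_le_pow_right (by omega) ha)
      rw [show n + 1 - (n + 1 - q) = q by omega] at this
      rw [this]
      exact bot_le

variable (X) in
theorem adapted_iff_act : ARSys.IsAdapted J X ↔
    ∀ (n p q : ℕ), ∀ a ∈ J ^ p, act a (ARSys.Fsub X q n) ≤ ARSys.Fsub X (p + q) n := by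
  refine ⟨fun h n p q a ha => act_fsub_le h ha, fun H => (adapted_iff X).2 fun n p hp a ha => ?_⟩
  refine le_bot_iff.1 ((H n p (n + 1 - p) a ha).trans ?_)
  rw [fsub_bot X (show n < p + (n + 1 - p) by omega)]

theorem grSub_le {M : ∀ q, Subobject (X.obj (op q))} (hM : ARSys.IsGrSub J X M) {p q n : ℕ}
    (hn : n = p + q) (h : q ≤ n) {a : A} (ha : a ∈ J ^ p) :
    act a (pre (tr X h) (M q)) ≤ M n := by
  subst hn
  rw [act, img]
  exact hM.2 p q a ha

theorem isGrSub_mk {M : ∀ q, Subobject (X.obj (op q))} (h₁ : ∀ q, M q ≤ ARSys.Fsub X q q)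
    (h₂ : ∀ p q, ∀ a ∈ J ^ p, act a (pre (tr X (Nat.le_add_left q p)) (M q)) ≤ M (p + q)) :
    ARSys.IsGrSub J X M :=
  ⟨h₁, fun p q a ha => h₂ p q a ha⟩

variable [Pow J C]

theorem P_finset_sup {Y : C} {ι : Type*} (k : ℕ) (s : Finset ι) (f : ι → Subobject Y) :
    P J k (s.sup f) = s.sup fun a => P J k (f a) := by
  classical
  induction s using Finset.induction with
  | empty => rw [Finset.sup_empty, Finset.sup_empty, P_bot]
  | insert a t _ ih => rw [Finset.sup_insert, Finset.sup_insert, P_sup, ih]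

theorem P_one_eq {Y : C} (s : Finset A) (hs : Submodule.span A (s : Set A) = J)
    (S : Subobject Y) : P J 1 S = s.sup fun a => act a S := by
  refine le_antisymm (P_le_iff.2 fun a ha => ?_) (Finset.sup_le fun a ha => act_le_P ?_ S)
  · rw [pow_one, ← hs] at ha
    refine Submodule.span_induction (p := fun a _ => act a S ≤ s.sup fun a => act a S)
      (fun a ha => Finset.le_sup (f := fun a => act a S) ha) ((act_zero S).le.trans bot_le)
      (fun a b _ _ ha hb => (act_add_le a b S).trans (sup_le ha hb)) (fun r a _ ha => ?_) ha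
    rw [smul_eq_mul, mul_comm, act_mul]
    exact (act_le r _).trans ha
  · rw [pow_one, ← hs]; exact Submodule.subset_span ha

theorem fsub_adic (hX : ARSys.IsAdic J X) {q n : ℕ} (h : q ≤ n + 1) :
    ARSys.Fsub X q n = P J q ⊤ := by
  cases q with
  | zero => rw [fsub_zero, P_zero]
  | succ k => rw [fsub_succ X (show k ≤ n by omega), ((isAdic_iff X).1 hX).2 k n _ |>.2]

theorem adapted_of_adic (hX : ARSys.IsAdic J X) : ARSys.IsAdapted J X := by
  refine (adapted_iff X).2 fun n p hp a ha => le_bot_iff.1 ?_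
  rw [fsub_adic hX (Nat.sub_le _ _)]
  refine (act_P_le ha _ _).trans ?_
  rw [← (termKilled_iff X).1 hX.1 n, show p + (n + 1 - p) = n + 1 by omega]

theorem adapted_of_mono {Y : PS C} (f : X ⟶ Y) [Mono f] (hY : ARSys.IsAdapted J Y) :
    ARSys.IsAdapted J X := by
  refine (adapted_iff X).2 fun n p hp a ha => ?_
  haveI := mono_app f (op n)
  refine img_injective (f.app (op n)) ?_
  rw [img_bot, img_act, ← le_bot_iff, ← (adapted_iff Y).1 hY n p hp a ha]
  refine act_mono a ?_
  cases hq : n + 1 - p with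
  | zero => rw [fsub_zero Y]; exact le_top
  | succ k =>
    have hk : k ≤ n := by omega
    rw [fsub_succ X hk, fsub_succ Y hk, img_le_iff, ← ker_comp, ← tr_nat, ker_comp]
    exact ker_le_pre _ _

theorem grs_acc (hJ : J.FG) (hX : ARSys.IsAdic J X) [IsNoetherianObject (X.obj (op 0))]
    (M : ℕ →o ∀ q, Subobject (X.obj (op q))) (hM : ∀ k, ARSys.IsGrSub J X (M k)) :
    ∃ k₀, ∀ k, k₀ ≤ k → M k = M k₀ := by
  classical
  obtain ⟨s, hs⟩ := hJ
  have hepi : ∀ {n m : ℕ} (h : n ≤ m), Epi (tr X h) := fun h => isAdic_isStrict hX _ _ h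
  have hex : ∀ (a : J) (q : ℕ), ∃ ψ, tr X (Nat.le_succ q) ≫ ψ = (a : A) • 𝟙 _ := fun a q => by
    haveI := hepi (Nat.le_succ q)
    refine exists_desc _ _ ?_
    rw [((isAdic_iff X).1 hX).2 q (q + 1) _ |>.2, ← img_eq_bot_iff, ← le_bot_iff]
    refine (act_P_le (j := 1) (by rw [pow_one]; exact a.2) (q + 1) ⊤).trans ?_
    rw [← (termKilled_iff X).1 hX.1 (q + 1), add_comm 1]
  choose φ hφ using hex
  have hφi : ∀ (a : J) (q : ℕ) (S : Subobject (X.obj (op q))),
      img (φ a q) S = act (a : A) (pre (tr X (Nat.le_succ q)) S) := fun a q S => by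
    haveI := hepi (Nat.le_succ q)
    rw [act, ← hφ, ← img_img, img_pre_of_epi]
  have hs' : ∀ a ∈ s, a ∈ J := fun a ha => hs ▸ Submodule.subset_span ha
  let e : s ↪ J := ⟨fun a => ⟨a.1, hs' a.1 a.2⟩,
    fun a b h => Subtype.ext (congrArg (fun x : J => (x : A)) h)⟩
  refine graded_acc (E := fun q => X.obj (op q)) φ (fun a b q => ?_) (s.attach.map e)
    (fun q => P J q ⊤) (fun q => ?_) M
    (fun k q => ((hM k).1 q).trans (fsub_adic hX (Nat.le_succ q)).le) (fun k a _ q => ?_)
  · haveI := hepi (Nat.le_succ q)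
    haveI := hepi (Nat.le_succ (q + 1))
    rw [← cancel_epi (tr X (Nat.le_succ q)), ← cancel_epi (tr X (Nat.le_succ (q + 1))),
      reassoc_of% (hφ a q), reassoc_of% (hφ b q)]
    simp only [Linear.comp_smul, Linear.smul_comp, Category.id_comp, hφ, smul_smul, mul_comm]
  · haveI := hepi (Nat.le_succ q)
    calc P J (q + 1) (⊤ : Subobject (X.obj (op (q + 1))))
        = P J q (P J 1 ⊤) := by rw [P_P]
      _ = s.sup fun a => P J q (act a ⊤) := by rw [P_one_eq s hs, P_finset_sup]
      _ = _ := by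
          rw [Finset.sup_map, ← Finset.sup_attach s]
          refine congrArg _ (funext fun a => ?_)
          simp only [Function.comp_apply, e, Function.Embedding.coeFn_mk]
          rw [img_P, hφi, pre_top]
  · rw [hφi]
    exact grSub_le (hM k) (add_comm q 1) _ (by rw [pow_one]; exact a.2)

theorem isARAdic_of_grs (hX : ARSys.IsStrict X) (hA : ARSys.IsAdapted J X)
    (hft : ARSys.GrsFiniteType J X) : ARSys.IsARAdic J X := by
  let M : ℕ → ∀ q, Subobject (X.obj (op q)) := fun i q =>
    P J (q - i) (ARSys.Fsub X (min i q) q)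
  have hP : ∀ {n} (p q : ℕ), P J p (ARSys.Fsub X q n) ≤ ARSys.Fsub X (p + q) n :=
    fun p q => P_le_iff.2 fun a ha => act_fsub_le hA ha
  have hstep : ∀ {n} (k j k' j' : ℕ), k' ≤ k → k + j = k' + j' →
      P J k (ARSys.Fsub X j n) ≤ P J k' (ARSys.Fsub X j' n) := fun k j k' j' h e => by
    rw [show k = k' + (k - k') by omega, ← P_P]
    refine P_mono ((hP _ _).trans ?_)
    rw [show k - k' + j = j' by omega]
  have hMle : ∀ i q, M i q ≤ ARSys.Fsub X q q := fun i q => by
    refine (hP _ _).trans ?_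
    rw [show q - i + min i q = q by omega]
  have hMgr : ∀ i, ARSys.IsGrSub J X (M i) := fun i => isGrSub_mk (hMle i) fun p q a ha => by
    set h := Nat.le_add_left q p
    haveI : Epi (tr X h) := hX _ _ _
    have e : pre (tr X h) (M i q) ≤
        P J (q - i) (ARSys.Fsub X (min i q) (p + q)) ⊔ ker (tr X h) := by
      rw [← pre_img, img_P]
      refine pre_mono _ (P_mono ?_)
      rw [← pre_fsub X (show min i q ≤ q + 1 by omega) h, img_pre_of_epi]
    refine (act_mono a e).trans ?_
    rw [act_sup]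
    refine sup_le ((act_P_le ha _ _).trans (hstep _ _ _ _ (by omega) (by omega))) ?_
    rw [← fsub_succ X h]
    refine (act_fsub_le hA ha).trans ?_
    rw [fsub_bot X (show p + q < p + (q + 1) by omega)]
    exact bot_le
  obtain ⟨i, hi⟩ := hft M hMgr
    (fun i i' h q => hstep _ _ _ _ (by omega) (by omega))
    (fun q => ⟨Set.forall_mem_range.2 fun i => hMle i q, fun T hT => by
      refine le_trans ?_ (hT ⟨q, rfl⟩)
      simp only [M, Nat.sub_self, min_self, P_zero, le_refl]⟩)
  have kX : ARSys.TermKilled J X := (termKilled_iff X).2 fun n => le_bot_iff.1 <|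
    P_le_iff.2 fun a ha => by
      rw [← fsub_zero X n]
      exact (act_fsub_le hA ha).trans (fsub_bot X (show n < n + 1 + 0 by omega)).le
  refine isARAdic_of_crit hX kX (crit_of_step hX (r := i) fun n => ?_)
  rw [← fsub_succ X (Nat.le_succ n), ← hi (n + 1)]
  exact P_mono le_top

theorem grs_finiteType_of_sub {Y : PS C} (f : X ⟶ Y) [Mono f] (hX : ARSys.IsStrict X)
    (hY : ARSys.IsAdic J Y) (hJ : J.FG) [IsNoetherianObject (Y.obj (op 0))] :
    ARSys.GrsFiniteType J X := by
  intro M hM hmono hlub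
  have hA := adapted_of_adic hY
  let M' : ℕ →o ∀ q, Subobject (Y.obj (op q)) :=
    ⟨fun k q => img (f.app (op q)) (M k q), fun k l h q => img_mono _ (hmono h q)⟩
  have hM' : ∀ k, ARSys.IsGrSub J Y (M' k) := fun k => isGrSub_mk (fun q => by
      refine (img_mono _ ((hM k).1 q)).trans ?_
      cases q with
      | zero => rw [fsub_zero Y]; exact le_top
      | succ j =>
        rw [fsub_succ X (Nat.le_succ j), fsub_succ Y (Nat.le_succ j), img_le_iff, ← ker_comp,
          ← tr_nat, ker_comp]
        exact ker_le_pre _ _) fun p q a ha => by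
    set h := Nat.le_add_left q p
    haveI : Epi (tr X h) := hX _ _ _
    have e : pre (tr Y h) (M' k q) =
        img (f.app (op (p + q))) (pre (tr X h) (M k q)) ⊔ ker (tr Y h) := by
      rw [← pre_img, img_img, ← tr_nat, ← img_img, img_pre_of_epi]
      rfl
    rw [e, act_sup, ← img_act]
    refine sup_le (img_mono _ (grSub_le (hM k) rfl h ha)) ?_
    rw [← fsub_succ Y h]
    refine (act_fsub_le hA ha).trans ?_
    rw [fsub_bot Y (show p + q < p + (q + 1) by omega)]
    exact bot_le
  obtain ⟨k₀, hk₀⟩ := grs_acc hJ hY M' hM'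
  refine ⟨k₀, fun q => le_antisymm ((hM k₀).1 q) ((hlub q).2 (Set.forall_mem_range.2 fun k => ?_))⟩
  haveI := mono_app f (op q)
  rcases le_total k k₀ with h | h
  · exact hmono h q
  · exact (img_injective (f.app (op q)) (congrFun (hk₀ k h) q)).le

theorem isARAdic_of_strict_sub {Y : PS C} (f : X ⟶ Y) [Mono f] (hX : ARSys.IsStrict X)
    (hY : ARSys.IsAdic J Y) (hJ : J.FG) [IsNoetherianObject (Y.obj (op 0))] :
    ARSys.IsARAdic J X :=
  isARAdic_of_grs hX (adapted_of_mono f (adapted_of_adic hY))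
    (grs_finiteType_of_sub f hX hY hJ)

theorem strict_sub_acc (hJ : J.FG) (hX : ARSys.IsAdic J X) [IsNoetherianObject (X.obj (op 0))]
    (Z : ℕ →o Subobject X) (hZ : ∀ k, ARSys.IsStrict (Z k : PS C)) :
    ∃ k₀, ∀ k, k₀ ≤ k → Z k = Z k₀ := by
  have hA := adapted_of_adic hX
  have himg : ∀ k {q n : ℕ} (h : q ≤ n), img (tr X h) (comp' (Z k) (op n)) = comp' (Z k) (op q) :=
    fun k q n h => by
      haveI : Epi (tr (Z k : PS C) h) := hZ k _ _ _
      rw [comp', comp', ← rng_comp, ← tr_nat, rng_comp, rng_of_epi (tr (Z k : PS C) h)]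
  let M : ℕ →o ∀ q, Subobject (X.obj (op q)) :=
    ⟨fun k q => comp' (Z k) (op q) ⊓ ARSys.Fsub X q q,
      fun k l h q => inf_le_inf_right _ (comp'_mono (Z.2 h) _)⟩
  have hM : ∀ k, ARSys.IsGrSub J X (M k) := fun k => isGrSub_mk (fun q => inf_le_right)
    fun p q a ha => by
      set h := Nat.le_add_left q p
      have hk : act a (ker (tr X h)) = ⊥ := by
        rw [← fsub_succ X h]
        refine le_bot_iff.1 ((act_fsub_le hA ha).trans ?_)
        rw [fsub_bot X (show p + q < p + (q + 1) by omega)]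
      refine le_inf ?_ ?_
      · refine (act_mono a (pre_mono _ inf_le_left)).trans ?_
        rw [← himg k h, pre_img, act_sup, hk, sup_bot_eq]
        exact act_le a _
      · refine (act_mono a (pre_mono _ inf_le_right)).trans ?_
        rw [pre_fsub X (Nat.le_succ q) h]
        exact act_fsub_le hA ha
  obtain ⟨k₀, hk₀⟩ := grs_acc hJ hX M hM
  refine ⟨k₀, fun k hk => le_antisymm (le_of_comp' fun n => ?_) (Z.2 hk)⟩
  obtain ⟨n⟩ := n
  induction n with
  | zero =>
    have e := congrFun (hk₀ k hk) 0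
    change comp' (Z k) (op 0) ⊓ ARSys.Fsub X 0 0 = comp' (Z k₀) (op 0) ⊓ ARSys.Fsub X 0 0 at e
    rw [fsub_zero, inf_top_eq, inf_top_eq] at e
    exact e.le
  | succ q ih =>
    have h1 : comp' (Z k) (op (q + 1)) ≤
        comp' (Z k₀) (op (q + 1)) ⊔ ker (tr X (Nat.le_succ q)) := by
      rw [← pre_img, ← img_le_iff, himg, himg]
      exact ih
    refine (le_inf h1 le_rfl).trans ((IsModularLattice.sup_inf_le_assoc_of_le _
      (comp'_mono (Z.2 hk) _)).trans (sup_le le_rfl ?_))
    rw [← fsub_succ X (Nat.le_succ q), inf_comm]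
    exact (congrFun (hk₀ k hk) (q + 1)).le.trans inf_le_left

end Fsub

end Groth.Agent.ARLib
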