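import Groth.Agent.ARLib.Grs

/-! Kernels and cokernels of morphisms of systems adic up to translation. -/

set_option backward.isDefEq.respectTransparency false
set_option backward.isDefEq.respectTransparency.types false
set_option autoImplicit false
set_option linter.style.haveILetI false

universe w v u

open CategoryTheory CategoryTheory.Limits Opposite

namespace Groth.Agent.ARLib

variable {C : Type u} [Category.{v} C] [Abelian C] {A : Type w} [CommRing A] [Linear A C]
  {J : Ideal A}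

open ARSys (PS tr)

theorem isARIso_of_isIso {X Y : PS C} (e : X ⟶ Y) [IsIso e] : ARSys.IsARIso e :=
  (isARIso_iff e).2 ⟨0, fun n m h => by
    haveI := mono_app e (op m)
    haveI := epi_app e (op n)
    exact ⟨(ker_of_mono (e.app (op m))).le.trans bot_le,
      le_top.trans (rng_of_epi (e.app (op n))).ge⟩⟩

theorem arIso_cancel {T W K : PS C} (hT : ARSys.IsStrict T) {w : W ⟶ K} (hw : ARSys.IsARIso w)
    (g : T ⟶ W) (h : g ≫ w = 0) : g = 0 := by
  obtain ⟨r, hr⟩ := (isARIso_iff w).1 hw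
  ext ⟨n⟩
  haveI : Epi (tr T (Nat.le_add_right n r)) := hT _ _ _
  rw [← cancel_epi (tr T (Nat.le_add_right n r))]
  change tr T _ ≫ g.app (op n) = tr T _ ≫ 0
  rw [tr_nat, comp_zero, eq_zero_iff_rng, rng_comp, img_eq_bot_iff]
  refine le_trans ?_ (hr n (n + r) le_rfl).1
  rw [← img_eq_bot_iff, ← rng_comp, ← eq_zero_iff_rng, ← NatTrans.comp_app, h]
  rfl

theorem exists_adic_lift {T W K : PS C} (hT : ARSys.IsAdic J T) (hW : ARSys.TermKilled J W)
    {w : W ⟶ K} (hw : ARSys.IsARIso w) (g : T ⟶ K) : ∃ h : T ⟶ W, h ≫ w = g := by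
  obtain ⟨r, v, hv⟩ := exists_inv hw
  obtain ⟨f, hf⟩ := exists_hom hT hW ((SHom.ofHom g 0).comp v)
  refine ⟨f, hom_unique (r := r + 0) (isAdic_isStrict hT) fun n => ?_⟩
  rw [NatTrans.comp_app, ← Category.assoc]
  refine (congrArg (· ≫ w.app (op n)) (hf n (n + (r + 0)) le_rfl).symm).trans ?_
  rw [SHom.comp_app (SHom.ofHom g 0) v (k := n + r) le_rfl (by omega)]
  simp only [SHom.ofHom, Category.assoc]
  rw [hv.vu, ← tr_nat, tr_tr_assoc]

theorem isIso_of_arIso {Q Y : PS C} (hQ : ARSys.IsAdic J Q) (hY : ARSys.IsAdic J Y)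
    (c : Q ⟶ Y) (hc : ARSys.IsARIso c) : IsIso c := by
  obtain ⟨r, v, hv⟩ := exists_inv hc
  obtain ⟨g, hg⟩ := exists_hom hY hQ.1 v
  refine ⟨⟨g, hom_unique (r := r) (isAdic_isStrict hQ) fun n => ?_,
    hom_unique (r := r) (isAdic_isStrict hY) fun n => ?_⟩⟩
  · rw [NatTrans.comp_app, ← Category.assoc]
    change (tr Q _ ≫ c.app (op n)) ≫ g.app (op n) = tr Q _ ≫ 𝟙 _
    rw [tr_nat, Category.assoc, ← hg n (n + r) le_rfl, Category.comp_id]
    exact hv.uv n (n + r) le_rfl
  · rw [NatTrans.comp_app, ← Category.assoc]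
    change (tr Y _ ≫ g.app (op n)) ≫ c.app (op n) = tr Y _ ≫ 𝟙 _
    rw [← hg n (n + r) le_rfl, Category.comp_id]
    exact hv.vu n (n + r) le_rfl

theorem noeth_of_arIso {W X : PS C} (hW : ARSys.IsStrict W) {w : W ⟶ X} (hw : ARSys.IsARIso w)
    (hX : ∀ n, IsNoetherianObject (X.obj (op n))) (n : ℕ) : IsNoetherianObject (W.obj (op n)) := by
  obtain ⟨r, hr⟩ := (isARIso_iff w).1 hw
  let p := factorThruImageSubobject (w.app (op (n + r)))
  haveI := hX (n + r)
  haveI : IsNoetherianObject (imageSubobject (w.app (op (n + r))) : C) :=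
    isNoetherianObject_of_mono (imageSubobject (w.app (op (n + r)))).arrow
  haveI : Epi p := inferInstanceAs (Epi (factorThruImageSubobject _))
  obtain ⟨ψ, hψ⟩ := exists_desc p (tr W (Nat.le_add_right n r)) (by
    refine le_trans ?_ (hr n (n + r) le_rfl).1
    calc ker p ≤ ker (p ≫ (imageSubobject (w.app (op (n + r)))).arrow) := by
          rw [ker_comp]; exact ker_le_pre _ _
      _ = _ := congrArg ker (imageSubobject_arrow_comp _))
  haveI : Epi (tr W (Nat.le_add_right n r)) := hW _ _ _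
  haveI : Epi ψ := epi_of_epi_fac hψ
  exact noeth_of_epi ψ

theorem isStrict_image {X Y : PS C} (f : X ⟶ Y) (hX : ARSys.IsStrict X) :
    ARSys.IsStrict (Abelian.image f) :=
  isStrict_of_epi (Abelian.factorThruImage f) hX

theorem arAdicNoeth_of_iso {X Y : PS C} (e : X ≅ Y) (h : ARSys.IsARAdicNoeth J X) :
    ARSys.IsARAdicNoeth J Y :=
  ⟨isARAdic_of_isARIso (isARIso_of_isIso e.hom) (termKilled_of_mono e.inv h.1.1) h.1, fun n => by
    haveI := h.2 n
    haveI := mono_app e.inv (op n)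
    exact isNoetherianObject_of_mono (e.inv.app (op n))⟩

variable [Pow J C]

theorem isAdic_cokernel {X Y : PS C} (f : X ⟶ Y) (hX : ARSys.IsStrict X)
    (hY : ARSys.IsAdic J Y) : ARSys.IsAdic J (cokernel f) :=
  isAdic_X₃ (ShortComplex.mk (Abelian.image.ι f) (cokernel.π f) (kernel.condition _))
    (ShortComplex.ShortExact.mk'
      (ShortComplex.exact_of_f_is_kernel _ (kernelIsKernel (cokernel.π f)))
      inferInstance inferInstance) (isStrict_image f hX) hY

theorem isARAdic_kernel_adic (hJ : J.FG) {X Y : PS C} (f : X ⟶ Y) (hX : ARSys.IsAdic J X)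
    (hY : ARSys.IsAdic J Y) [IsNoetherianObject (X.obj (op 0))]
    [IsNoetherianObject (Y.obj (op 0))] : ARSys.IsARAdic J (kernel f) := by
  let g := Abelian.factorThruImage f
  have hsI := isStrict_image f (isAdic_isStrict hX)
  obtain ⟨r, hr⟩ := crit_of_isARAdic hsI
    (isARAdic_of_strict_sub (Abelian.image.ι f) hsI hY hJ)
  have hκ : ∀ n, rng ((kernel.ι f).app n) = ker (g.app n) := fun n => by
    haveI := mono_app (Abelian.image.ι f) n
    rw [rng_kernel_app]
    calc ker (f.app n) = ker (g.app n ≫ (Abelian.image.ι f).app n) := by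
          rw [← NatTrans.comp_app, Abelian.image.fac]
      _ = _ := by rw [ker_comp, ker_of_mono]
  have hK := mlb_kernel hκ (isAdic_isStrict hX) hX.1 hr
  exact isARAdic_of_isARIso (isARIso_univι hK) (termKilled_of_mono (kernel.ι f) hX.1)
    (isARAdic_of_strict_sub (univι hK ≫ kernel.ι f) (isStrict_univSys hK) hX hJ)

theorem arAdicNoeth_ker_coker (hJ : J.FG) {X Y : PS C} (u : X ⟶ Y)
    (hX : ARSys.IsARAdicNoeth J X) (hY : ARSys.IsARAdicNoeth J Y) :
    ARSys.IsARAdicNoeth J (kernel u) ∧ ARSys.IsARAdicNoeth J (cokernel u) := by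
  obtain ⟨⟨kX, X', wX, hX', hwX⟩, nX⟩ := hX
  obtain ⟨⟨kY, Y', wY, hY', hwY⟩, nY⟩ := hY
  obtain ⟨f, hf⟩ := exists_adic_lift hX' hY'.1 hwY (wX ≫ u)
  haveI := noeth_of_arIso (isAdic_isStrict hX') hwX nX 0
  haveI := noeth_of_arIso (isAdic_isStrict hY') hwY nY 0
  refine ⟨⟨?_, fun n => ?_⟩, ⟨?_, fun n => ?_⟩⟩
  · exact isARAdic_of_isARIso
      (isARIso_ker_map (f := u) (f' := f) (rng_kernel_app u) (rng_kernel_app f)
        (j := kernel.map f u wX wY hf) (kernel.lift_ι _ _ _) hf hwX hwY)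
      (termKilled_of_mono (kernel.ι u) kX) (isARAdic_kernel_adic hJ f hX' hY')
  · haveI := mono_app (kernel.ι u) (op n)
    haveI := nX n
    exact isNoetherianObject_of_mono ((kernel.ι u).app (op n))
  · exact ⟨termKilled_of_epi (cokernel.π u) kY, _, cokernel.map f u wX wY hf,
      isAdic_cokernel f (isAdic_isStrict hX') hY',
      isARIso_coker_map (f := u) (f' := f) (ker_cokernel_app u) (ker_cokernel_app f)
        (cokernel.π_desc _ _ _) hf hwX hwY⟩
  · haveI := epi_app (cokernel.π u) (op n)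
    haveI := nY n
    exact noeth_of_epi ((cokernel.π u).app (op n))

theorem arAdicNoeth_X₁ (hJ : J.FG) (S : ShortComplex (PS C)) (hS : S.ShortExact)
    (h₂ : ARSys.IsARAdicNoeth J S.X₂) (h₃ : ARSys.IsARAdicNoeth J S.X₃) :
    ARSys.IsARAdicNoeth J S.X₁ :=
  arAdicNoeth_of_iso ((kernelIsKernel S.g).conePointUniqueUpToIso hS.fIsKernel)
    (arAdicNoeth_ker_coker hJ S.g h₂ h₃).1

section Category

theorem adicNoeth_of_isZero {X : PS C} (hX : IsZero X) : ARSys.IsAdicNoeth J X := by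
  have hz : ∀ n : ℕ, IsZero (X.obj (op n)) := fun n => hX.obj _
  refine ⟨(isAdic_iff X).2 ⟨fun n a _ => (hz n).eq_of_src _ _, fun n m h => ⟨⟨fun g g' _ =>
    (hz n).eq_of_src g g'⟩, ?_⟩⟩, fun n => isNoetherianObject_of_isZero (hz n)⟩
  haveI := Subobject.subsingleton_of_isZero (hz m)
  exact Subsingleton.elim _ _

theorem adicNoeth_of_iso {X Y : PS C} (e : X ≅ Y) (h : ARSys.IsAdicNoeth J X) :
    ARSys.IsAdicNoeth J Y := by
  refine ⟨(isAdic_iff Y).2 ⟨termKilled_of_mono e.inv h.1.1, fun n m hnm =>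
    ⟨isStrict_of_epi e.hom (isAdic_isStrict h.1) n m hnm, ?_⟩⟩, fun n => ?_⟩
  · haveI := epi_app e.hom (op m)
    haveI := mono_app e.hom (op n)
    rw [← img_pre_of_epi (e.hom.app (op m)) (ker (tr Y hnm)), ← ker_comp, ← tr_nat, ker_comp,
      ker_of_mono]
    change img _ (ker (tr X hnm)) = _
    rw [((isAdic_iff X).1 h.1).2 n m hnm |>.2, img_P, ← rng, rng_of_epi]
  · haveI := h.2 n
    haveI := mono_app e.inv (op n)
    exact isNoetherianObject_of_mono (e.inv.app (op n))

theorem adicNoeth_biprod {X Y : PS C} (hX : ARSys.IsAdicNoeth J X)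
    (hY : ARSys.IsAdicNoeth J Y) : ARSys.IsAdicNoeth J (X ⊞ Y) := by
  have hk : ARSys.TermKilled J (X ⊞ Y) := fun n a ha => by
    have e : 𝟙 ((X ⊞ Y).obj (op n)) =
        (biprod.fst : X ⊞ Y ⟶ X).app (op n) ≫ (biprod.inl : X ⟶ X ⊞ Y).app (op n) +
          (biprod.snd : X ⊞ Y ⟶ Y).app (op n) ≫ (biprod.inr : Y ⟶ X ⊞ Y).app (op n) := by
      rw [← NatTrans.comp_app, ← NatTrans.comp_app, ← NatTrans.app_add, biprod.total]
      rfl
    rw [e, smul_add, ← Linear.comp_smul, ← Linear.comp_smul,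
      homKilled_of_killed (hX.1.1 n) (𝟙 (X.obj (op n))) a ha |> (fun h => show
        a • (biprod.inl : X ⟶ X ⊞ Y).app (op n) = 0 by
          rw [← Category.id_comp ((biprod.inl : X ⟶ X ⊞ Y).app (op n)), ← Linear.smul_comp, h,
            zero_comp]),
      homKilled_of_killed (hY.1.1 n) (𝟙 (Y.obj (op n))) a ha |> (fun h => show
        a • (biprod.inr : Y ⟶ X ⊞ Y).app (op n) = 0 by
          rw [← Category.id_comp ((biprod.inr : Y ⟶ X ⊞ Y).app (op n)), ← Linear.smul_comp, h,
            zero_comp]), comp_zero, comp_zero, add_zero]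
  let S := ShortComplex.mk (biprod.inl : X ⟶ X ⊞ Y) biprod.snd biprod.inl_snd
  have hS : S.ShortExact := ShortComplex.Splitting.shortExact
    { r := biprod.fst
      s := biprod.inr
      f_r := biprod.inl_fst
      s_g := biprod.inr_snd
      id := biprod.total }
  exact ⟨isAdic_X₂ S hS hk hX.1 hY.1, fun n =>
    haveI := hX.2 n
    haveI := hY.2 n
    noeth_components hS n⟩

variable (C J) in
/-- Adic systems with noetherian components. -/
abbrev adicP : ObjectProperty (PS C) := fun X => ARSys.IsAdicNoeth J X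

instance : (adicP C J).IsClosedUnderIsomorphisms := ⟨fun e h => adicNoeth_of_iso e h⟩

instance : (adicP C J).ContainsZero :=
  ⟨⟨_, isZero_zero (PS C), adicNoeth_of_isZero (isZero_zero (PS C))⟩⟩

instance : (adicP C J).IsClosedUnderBinaryProducts where
  limitsOfShape_le := by
    rintro X ⟨p⟩
    let α := p.diag.obj ⟨WalkingPair.left⟩
    let β := p.diag.obj ⟨WalkingPair.right⟩
    have hl : IsLimit ((Cone.postcompose (diagramIsoPair p.diag).hom).obj p.cone) :=
      (IsLimit.postcomposeHomEquiv (diagramIsoPair p.diag) p.cone).symm p.isLimit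
    exact adicNoeth_of_iso
      ((BinaryBiproduct.isLimit α β).conePointUniqueUpToIso hl)
      (adicNoeth_biprod (p.prop_diag_obj ⟨WalkingPair.left⟩) (p.prop_diag_obj ⟨WalkingPair.right⟩))

theorem hasFiniteProducts_adicP : HasFiniteProducts (adicP C J).FullSubcategory :=
  haveI : (adicP C J).IsClosedUnderFiniteProducts :=
    ObjectProperty.IsClosedUnderFiniteProducts.mk'
  inferInstance

variable {X Y : (adicP C J).FullSubcategory}

theorem adicNoeth_cokernel (f : X ⟶ Y) : ARSys.IsAdicNoeth J (cokernel f.hom) :=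
  ⟨isAdic_cokernel f.hom (isAdic_isStrict X.property.1) Y.property.1, fun n =>
    haveI := epi_app (cokernel.π f.hom) (op n)
    haveI := Y.property.2 n
    noeth_of_epi ((cokernel.π f.hom).app (op n))⟩

/-- The cokernel object. -/
noncomputable abbrev cokerObj (f : X ⟶ Y) : (adicP C J).FullSubcategory :=
  ⟨cokernel f.hom, adicNoeth_cokernel f⟩

/-- The cokernel projection. -/
noncomputable abbrev cokerπ (f : X ⟶ Y) : Y ⟶ cokerObj f :=
  ObjectProperty.homMk (cokernel.π f.hom)

theorem comp_cokerπ (f : X ⟶ Y) : f ≫ cokerπ f = 0 :=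
  ObjectProperty.hom_ext _ (cokernel.condition f.hom)

theorem hasCokernels_adicP : HasCokernels (adicP C J).FullSubcategory := by
  refine ⟨fun {X Y} f => ⟨⟨CokernelCofork.ofπ (cokerπ f) (comp_cokerπ f),
    CokernelCofork.IsColimit.ofπ _ _
      (fun g hg => ObjectProperty.homMk (cokernel.desc f.hom g.hom
        (congrArg InducedCategory.Hom.hom hg)))
      (fun g hg => ObjectProperty.hom_ext _ (cokernel.π_desc _ _ _))
      (fun g hg m hm => ObjectProperty.hom_ext _ ?_)⟩⟩⟩
  change m.hom = cokernel.desc f.hom g.hom _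
  rw [← cancel_epi (cokernel.π f.hom), cokernel.π_desc]
  exact congrArg InducedCategory.Hom.hom hm

theorem exists_rep (hJ : J.FG) (f : X ⟶ Y) :
    ∃ (W : (adicP C J).FullSubcategory) (w : W.obj ⟶ kernel f.hom), ARSys.IsARIso w := by
  obtain ⟨⟨-, W, w, hW, hw⟩, hn⟩ := (arAdicNoeth_ker_coker hJ f.hom
    ⟨⟨X.property.1.1, _, 𝟙 _, X.property.1, isARIso_id _⟩, X.property.2⟩
    ⟨⟨Y.property.1.1, _, 𝟙 _, Y.property.1, isARIso_id _⟩, Y.property.2⟩).1
  exact ⟨⟨W, hW, noeth_of_arIso (isAdic_isStrict hW) hw hn⟩, w, hw⟩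

/-- A representative up to translation of a kernel is a kernel. -/
theorem isKernel_of_rep (f : X ⟶ Y) {K : PS C} (κ : K ⟶ X.obj) [Mono κ]
    (hκ : ∀ n, rng (κ.app n) = ker (f.hom.app n)) (W : (adicP C J).FullSubcategory)
    (w : W.obj ⟶ K) (hw : ARSys.IsARIso w) :
    ∃ h : ObjectProperty.homMk (X := W) (Y := X) (w ≫ κ) ≫ f = 0,
      Nonempty (IsLimit (KernelFork.ofι (ObjectProperty.homMk (X := W) (Y := X) (w ≫ κ)) h)) := by
  have hz : κ ≫ f.hom = 0 := by
    ext n
    rw [NatTrans.comp_app]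
    exact (eq_zero_iff_rng _).2 (by rw [rng_comp, hκ, img_ker])
  refine ⟨ObjectProperty.hom_ext _ (by
    change (w ≫ κ) ≫ f.hom = 0
    rw [Category.assoc, hz, comp_zero]), ?_⟩
  have hex : ∀ {T : (adicP C J).FullSubcategory} (g : T ⟶ X), g ≫ f = 0 →
      ∃ h : T.obj ⟶ W.obj, h ≫ w ≫ κ = g.hom := fun {T} g hg => by
    obtain ⟨g', hg'⟩ := exists_lift_nat κ g.hom fun n => by
      rw [hκ, ← img_eq_bot_iff, ← rng_comp, ← eq_zero_iff_rng, ← NatTrans.comp_app]
      exact congrArg (fun φ => φ.app n) (congrArg InducedCategory.Hom.hom hg)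
    obtain ⟨h, hh⟩ := exists_adic_lift T.property.1 W.property.1.1 hw g'
    exact ⟨h, by rw [← Category.assoc, hh, hg']⟩
  choose h hh using @hex
  refine ⟨KernelFork.IsLimit.ofι _ _ (fun g hg => ObjectProperty.homMk (h g hg))
    (fun g hg => ObjectProperty.hom_ext _ (hh g hg)) (fun {T} g hg m hm =>
      ObjectProperty.hom_ext _ (sub_eq_zero.1 ?_))⟩
  refine arIso_cancel (isAdic_isStrict T.property.1) hw _ ((cancel_mono κ).1 ?_)
  rw [Category.assoc, Preadditive.sub_comp, zero_comp, sub_eq_zero]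
  change m.hom ≫ w ≫ κ = h g hg ≫ w ≫ κ
  rw [hh g hg]
  exact congrArg InducedCategory.Hom.hom hm

theorem hasKernels_adicP (hJ : J.FG) : HasKernels (adicP C J).FullSubcategory := by
  refine ⟨fun {X Y} f => ?_⟩
  obtain ⟨W, w, hw⟩ := exists_rep hJ f
  obtain ⟨_, ⟨hl⟩⟩ := isKernel_of_rep f (kernel.ι f.hom) (rng_kernel_app _) W w hw
  exact ⟨⟨⟨_, hl⟩⟩⟩

/-- A monomorphism is the kernel of its cokernel. -/
theorem isLimit_of_mono (hJ : J.FG) (f : X ⟶ Y) [Mono f] :
    Nonempty (IsLimit (KernelFork.ofι f (comp_cokerπ f))) := by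
  obtain ⟨W, w, hw⟩ := exists_rep hJ f
  have hw0 : w = 0 := by
    obtain ⟨hk, -⟩ := isKernel_of_rep f (kernel.ι f.hom) (rng_kernel_app _) W w hw
    rw [← cancel_mono (kernel.ι f.hom), zero_comp]
    exact congrArg InducedCategory.Hom.hom (zero_of_comp_mono f hk)
  obtain ⟨r, hr⟩ := (isARIso_iff w).1 hw
  let e := Abelian.factorThruImage f.hom
  have he : ARSys.IsARIso e := (isARIso_iff e).2 ⟨r, fun n m h => by
    haveI := epi_app e (op n)
    refine ⟨le_trans ?_ (?_ : ker (f.hom.app (op m)) ≤ _), le_top.trans (rng_of_epi _).ge⟩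
    · rw [show f.hom.app (op m) = e.app (op m) ≫ (Abelian.image.ι f.hom).app (op m) by
        rw [← NatTrans.comp_app, Abelian.image.fac], ker_comp]
      exact ker_le_pre _ _
    · rw [← rng_kernel_app, ← img_eq_bot_iff, ← rng_comp, ← tr_nat, rng_comp, ← le_bot_iff]
      refine (img_mono _ ((hr n m h).2)).trans ?_
      rw [hw0, NatTrans.app_zero, (eq_zero_iff_rng _).1 rfl, img_bot]⟩
  obtain ⟨hh, ⟨hl⟩⟩ := isKernel_of_rep (cokerπ f) (Abelian.image.ι f.hom)
    (rng_kernel_app (cokernel.π f.hom)) X e he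
  have e' : ObjectProperty.homMk (X := X) (Y := Y) (e ≫ Abelian.image.ι f.hom) = f :=
    ObjectProperty.hom_ext _ (Abelian.image.fac f.hom)
  exact ⟨IsLimit.ofIsoLimit hl (Fork.ext (Iso.refl X) (by simpa using e'.symm))⟩

theorem isNormalEpi_adicP (hJ : J.FG) (f : X ⟶ Y) [Epi f] : Nonempty (NormalEpi f) := by
  have hq : cokerπ f = 0 := (cancel_epi f).1 ((comp_cokerπ f).trans comp_zero.symm)
  haveI : Epi f.hom :=
    Abelian.epi_of_cokernel_π_eq_zero _ (congrArg InducedCategory.Hom.hom hq)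
  obtain ⟨W, w, hw⟩ := exists_rep hJ f
  let k := ObjectProperty.homMk (X := W) (Y := X) (w ≫ kernel.ι f.hom)
  have hk : k ≫ f = 0 := ObjectProperty.hom_ext _ (by
    change (w ≫ kernel.ι f.hom) ≫ f.hom = 0
    rw [Category.assoc, kernel.condition, comp_zero])
  let c : cokernel k.hom ⟶ Y.obj :=
    cokernel.desc k.hom f.hom (congrArg InducedCategory.Hom.hom hk)
  haveI : IsIso c := isIso_of_arIso (adicNoeth_cokernel k).1 Y.property.1 c
    (isARIso_coker_map (f := kernel.ι f.hom) (f' := k.hom) (π := f.hom) (π' := cokernel.π k.hom)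
      (fun n => (rng_kernel_app f.hom n).symm) (ker_cokernel_app k.hom) (a := w) (b := 𝟙 _)
      (by rw [Category.id_comp]; exact cokernel.π_desc _ _ _) (Category.comp_id _) hw
      (isARIso_id _))
  refine ⟨⟨W, k, hk, CokernelCofork.IsColimit.ofπ _ _
    (fun g hg => ObjectProperty.homMk (inv c ≫ cokernel.desc k.hom g.hom
      (congrArg InducedCategory.Hom.hom hg)))
    (fun g hg => ObjectProperty.hom_ext _ ?_) (fun g hg m hm => (cancel_epi f).1 ?_)⟩⟩
  · change f.hom ≫ inv c ≫ cokernel.desc k.hom g.hom _ = g.hom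
    have : cokernel.π k.hom ≫ c = f.hom := cokernel.π_desc _ _ _
    rw [← this, Category.assoc, IsIso.hom_inv_id_assoc, cokernel.π_desc]
  · rw [hm]
    refine ObjectProperty.hom_ext _ ?_
    change g.hom = f.hom ≫ inv c ≫ cokernel.desc k.hom g.hom _
    have : cokernel.π k.hom ≫ c = f.hom := cokernel.π_desc _ _ _
    rw [← this, Category.assoc, IsIso.hom_inv_id_assoc, cokernel.π_desc]

theorem abelian_adicP (hJ : J.FG) : Nonempty (Abelian (adicP C J).FullSubcategory) :=
  ⟨{ normalMonoOfMono := fun f _ =>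
      ⟨⟨cokerObj f, cokerπ f, comp_cokerπ f, (isLimit_of_mono hJ f).some⟩⟩
     normalEpiOfEpi := fun f _ => isNormalEpi_adicP hJ f
     has_finite_products := hasFiniteProducts_adicP
     has_kernels := hasKernels_adicP hJ
     has_cokernels := hasCokernels_adicP }⟩

theorem noetherian_adicP (hJ : J.FG) (Y : (adicP C J).FullSubcategory) :
    IsNoetherianObject Y := by
  rw [isNoetherianObject_iff_monotone_chain_condition]
  intro N
  have hrng : ∀ (k : ℕ) (n : ℕᵒᵖ), comp' (Subobject.mk (Abelian.image.ι (N k).arrow.hom)) n =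
      rng ((N k).arrow.hom.app n) := fun k n => by
    rw [comp'_mk]
    exact (rng_kernel_app (cokernel.π (N k).arrow.hom) n).trans (ker_cokernel_app (N k).arrow.hom n)
  let Z : ℕ →o Subobject Y.obj :=
    ⟨fun k => Subobject.mk (Abelian.image.ι (N k).arrow.hom), fun k l h => le_of_comp' fun n => by
      rw [hrng, hrng]
      have e : (Subobject.ofLE _ _ (N.2 h)).hom.app n ≫ (N l).arrow.hom.app n =
          (N k).arrow.hom.app n := by
        rw [← NatTrans.comp_app]
        exact congrArg (fun φ => φ.hom.app n) (Subobject.ofLE_arrow (N.2 h))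
      rw [← e, rng_comp]
      exact img_mono _ le_top⟩
  haveI := Y.property.2 0
  obtain ⟨k₀, hk₀⟩ := strict_sub_acc hJ Y.property.1 Z fun k =>
    isStrict_of_epi (Abelian.factorThruImage (N k).arrow.hom ≫
      (Subobject.underlyingIso (Abelian.image.ι (N k).arrow.hom)).inv)
      (isAdic_isStrict (Subobject.underlying.obj (N k)).property.1)
  refine ⟨k₀, fun k hk => le_antisymm (N.2 hk) ?_⟩
  obtain ⟨hl⟩ := isLimit_of_mono hJ (N k₀).arrow
  have hz : (N k).arrow ≫ cokerπ (N k₀).arrow = 0 := ObjectProperty.hom_ext _ (by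
    ext n
    change (N k).arrow.hom.app n ≫ (cokernel.π (N k₀).arrow.hom).app n = 0
    rw [eq_zero_iff_rng, rng_comp, ← hrng]
    change img _ (comp' (Z k) n) = ⊥
    rw [hk₀ k hk]
    change img _ (comp' (Subobject.mk (Abelian.image.ι (N k₀).arrow.hom)) n) = ⊥
    rw [hrng, ← ker_cokernel_app, img_ker])
  obtain ⟨l, hl'⟩ := KernelFork.IsLimit.lift' hl (N k).arrow hz
  exact Subobject.le_of_comm l hl'

end Category

end Groth.Agent.ARLib
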