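import Groth.Agent.ARLib.Sys

/-! The uniform Mittag-Leffler condition and systems of universal images. -/

set_option backward.isDefEq.respectTransparency false
set_option backward.isDefEq.respectTransparency.types false
set_option autoImplicit false
set_option linter.style.haveILetI false

universe v u

open CategoryTheory CategoryTheory.Limits Opposite

namespace Groth.Agent.ARLib

variable {C : Type u} [Category.{v} C] [Abelian C]

open ARSys (PS tr)

/-- Uniform Mittag-Leffler with explicit bound. -/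
def MLb (X : PS C) (r : ℕ) : Prop :=
  ∀ n m k (h : n + r ≤ m) (h' : m ≤ k), rng (tr X ((Nat.le_add_right n r).trans h)) ≤
    rng (tr X (((Nat.le_add_right n r).trans h).trans h'))

theorem isMLAR_iff (X : PS C) : ARSys.IsMLAR X ↔ ∃ r, MLb X r := by
  simp only [ARSys.IsMLAR, ← rng_eq]
  constructor
  · rintro ⟨r, hr⟩
    refine ⟨r, fun n m k h h' => (rng_tr_anti X (Nat.le_add_right n r) h).trans ?_⟩
    obtain ⟨s, rfl⟩ : ∃ s, k = n + s := ⟨k - n, by omega⟩
    exact (hr s (by omega) n).ge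
  · rintro ⟨r, hr⟩
    exact ⟨r, fun s hs n => le_antisymm (rng_tr_anti X (Nat.le_add_right n r) (show n + r ≤ n + s by omega))
      (hr n (n + r) (n + s) le_rfl (show n + r ≤ n + s by omega))⟩

theorem mlb_of_strict {X : PS C} (hX : ARSys.IsStrict X) : MLb X 0 := fun n m k h h' => by
  rw [(isStrict_iff X).1 hX n k]; exact le_top

theorem MLb.mono {X : PS C} {r t : ℕ} (h : MLb X r) (hrt : r ≤ t) : MLb X t :=
  fun n m k h₁ h₂ => h n m k (by omega) h₂

theorem mlb_of_inv {X Y : PS C} {u : X ⟶ Y} {r t : ℕ} {v : SHom r Y X} (H : Inv u v)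
    (hX : MLb X t) : MLb Y (t + r) := by
  intro n m k h h'
  rw [← tr_tr Y (Nat.le_add_right n t) (show n + t ≤ m by omega), rng_comp,
    ← H.vu (n + t) m (by omega), rng_comp, img_img, ← tr_nat, ← img_img]
  calc img (u.app (op n)) (img (tr X (Nat.le_add_right n t)) (rng (v.app (n + t) m _)))
      ≤ img (u.app (op n)) (rng (tr X (Nat.le_add_right n t))) := img_mono _ (img_mono _ le_top)
    _ ≤ img (u.app (op n)) (rng (tr X (show n ≤ k by omega))) :=
        img_mono _ (hX n (n + t) k le_rfl (by omega))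
    _ ≤ rng (tr Y (show n ≤ k by omega)) := by
        rw [← rng_comp, tr_nat, rng_comp]; exact img_mono _ le_top

theorem mlb_of_inv' {X Y : PS C} {u : X ⟶ Y} {r t : ℕ} {v : SHom r Y X} (H : Inv u v)
    (hY : MLb Y t) : MLb X (t + r) := by
  intro n m k h h'
  have e : tr X ((Nat.le_add_right n (t + r)).trans h) =
      u.app (op m) ≫ tr Y (show n + r ≤ m by omega) ≫ v.app n (n + r) le_rfl := by
    rw [v.pre, H.uv]
  calc rng (tr X ((Nat.le_add_right n (t + r)).trans h))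
      ≤ img (v.app n (n + r) le_rfl) (rng (tr Y (show n + r ≤ m by omega))) := by
        rw [e, rng_comp, ← img_img]; exact img_mono _ (img_mono _ le_top)
    _ ≤ img (v.app n (n + r) le_rfl) (rng (tr Y (show n + r ≤ k + r by omega))) :=
        img_mono _ (hY (n + r) m (k + r) (by omega) (by omega))
    _ = rng (v.app k (k + r) le_rfl ≫ tr X (show n ≤ k by omega)) := by
        rw [← rng_comp, v.pre, v.post]
    _ ≤ rng (tr X (show n ≤ k by omega)) := by rw [rng_comp]; exact img_mono _ le_top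

theorem isMLAR_of_isARIso {X Y : PS C} {u : X ⟶ Y} (hu : ARSys.IsARIso u)
    (hX : ARSys.IsMLAR X) : ARSys.IsMLAR Y := by
  obtain ⟨r, v, hv⟩ := exists_inv hu
  obtain ⟨t, ht⟩ := (isMLAR_iff X).1 hX
  exact (isMLAR_iff Y).2 ⟨_, mlb_of_inv hv ht⟩

theorem isMLAR_of_isARIso' {X Y : PS C} {u : X ⟶ Y} (hu : ARSys.IsARIso u)
    (hY : ARSys.IsMLAR Y) : ARSys.IsMLAR X := by
  obtain ⟨r, v, hv⟩ := exists_inv hu
  obtain ⟨t, ht⟩ := (isMLAR_iff Y).1 hY
  exact (isMLAR_iff X).2 ⟨_, mlb_of_inv' hv ht⟩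

theorem image_eq_of_isStrict_of_isARIso {X Y : PS C} (u : Y ⟶ X) (hY : ARSys.IsStrict Y)
    (hu : ARSys.IsARIso u) : ∃ r : ℕ, ∀ s : ℕ, r ≤ s → ∀ n : ℕ,
      imageSubobject (ARSys.shiftMap X s n) = imageSubobject (u.app (op n)) := by
  obtain ⟨r, hr⟩ := (isARIso_iff u).1 hu
  refine ⟨r, fun s hs n => ?_⟩
  rw [← rng_eq, ← rng_eq]
  refine le_antisymm (hr n (n + s) (by omega)).2 ?_
  calc rng (u.app (op n)) = rng (tr Y (Nat.le_add_right n s) ≫ u.app (op n)) := by
        rw [rng_comp, (isStrict_iff Y).1 hY]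
    _ ≤ _ := by rw [tr_nat, rng_comp]; exact img_mono _ le_top

theorem isMLAR_X₃ (S : ShortComplex (PS C)) (hS : S.ShortExact) (h : ARSys.IsMLAR S.X₂) :
    ARSys.IsMLAR S.X₃ := by
  obtain ⟨r, hr⟩ := (isMLAR_iff _).1 h
  haveI := hS.epi_g
  refine (isMLAR_iff _).2 ⟨r, fun n m k h h' => ?_⟩
  haveI := epi_app S.g (op m)
  haveI := epi_app S.g (op k)
  have e : ∀ (a : ℕ) (ha : n ≤ a), Epi (S.g.app (op a)) →
      rng (tr S.X₃ ha) = img (S.g.app (op n)) (rng (tr S.X₂ ha)) := fun a ha _ => by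
    rw [← rng_comp, tr_nat, rng_comp, rng_of_epi (S.g.app (op a))]
  rw [e _ _ inferInstance, e _ _ inferInstance]
  exact img_mono _ (hr n m k h h')

theorem mlb_X₂ (S : ShortComplex (PS C)) (hS : S.ShortExact) {r t : ℕ} (h₁ : MLb S.X₁ r)
    (h₃ : MLb S.X₃ t) : MLb S.X₂ (r + t) := by
  haveI := hS.epi_g
  intro n m k h h'
  haveI := epi_app S.g (op k)
  have h1 : rng (tr S.X₂ (show n + r ≤ m by omega)) ≤
      rng (tr S.X₂ (show n + r ≤ k by omega)) ⊔ rng (S.f.app (op (n + r))) := by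
    rw [exact_app hS.exact, ← pre_img, ← img_le_iff]
    refine le_trans ?_ ((h₃ (n + r) m k (by omega) h').trans (le_of_eq ?_))
    · rw [← rng_comp, tr_nat, rng_comp]; exact img_mono _ le_top
    · rw [← rng_comp, tr_nat, rng_comp, rng_of_epi (S.g.app (op k))]
  rw [← tr_tr S.X₂ (Nat.le_add_right n r) (show n + r ≤ m by omega), rng_comp]
  refine (img_mono _ h1).trans ?_
  rw [img_sup, ← rng_comp, tr_tr, ← rng_comp, ← tr_nat, rng_comp]
  refine sup_le le_rfl ?_
  refine (img_mono _ (h₁ n (n + r) k le_rfl (by omega))).trans ?_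
  rw [← rng_comp, tr_nat, rng_comp]
  exact img_mono _ le_top

theorem isMLAR_X₂ (S : ShortComplex (PS C)) (hS : S.ShortExact) (h₁ : ARSys.IsMLAR S.X₁)
    (h₃ : ARSys.IsMLAR S.X₃) : ARSys.IsMLAR S.X₂ := by
  obtain ⟨r, hr⟩ := (isMLAR_iff _).1 h₁
  obtain ⟨t, ht⟩ := (isMLAR_iff _).1 h₃
  exact (isMLAR_iff _).2 ⟨_, mlb_X₂ S hS hr ht⟩

section Univ

variable {X : PS C} {r : ℕ}

/-- The universal images. -/
noncomputable def univS (X : PS C) (r : ℕ) (n : ℕ) : Subobject (X.obj (op n)) :=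
  rng (tr X (Nat.le_add_right n r))

theorem img_univS (hX : MLb X r) (n m : ℕ) (h : n ≤ m) : img (tr X h) (univS X r m) = univS X r n := by
  rw [univS, ← rng_comp, tr_tr]
  exact le_antisymm (rng_tr_anti X (Nat.le_add_right n r) (Nat.add_le_add_right h r))
    (hX n (n + r) (m + r) le_rfl (Nat.add_le_add_right h r))

/-- The system of universal images. -/
noncomputable abbrev univSys (hX : MLb X r) : PS C :=
  subSys X (univS X r) fun n m h => (img_univS hX n m h).le

/-- Its inclusion. -/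
noncomputable abbrev univι (hX : MLb X r) : univSys hX ⟶ X :=
  subι X (univS X r) fun n m h => (img_univS hX n m h).le

theorem isStrict_univSys (hX : MLb X r) : ARSys.IsStrict (univSys hX) := by
  refine (isStrict_iff _).2 fun n m h => ?_
  haveI := mono_app (univι hX) (op n)
  refine img_injective ((univι hX).app (op n)) ?_
  rw [← rng_comp, tr_nat, rng_comp, rng_subι, img_univS hX]
  exact (rng_subι X _ _ n).symm

theorem isARIso_univι (hX : MLb X r) : ARSys.IsARIso (univι hX) :=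
  (isARIso_iff _).2 ⟨r, fun n m h => by
    haveI := mono_app (univι hX) (op m)
    refine ⟨(ker_of_mono ((univι hX).app (op m))).le.trans bot_le,
      le_trans ?_ (rng_subι X (univS X r) (fun a b c => (img_univS hX a b c).le) n).ge⟩
    exact rng_tr_anti X (Nat.le_add_right n r) h⟩

end Univ

theorem isMLAR_iff_exists (X : PS C) : ARSys.IsMLAR X ↔
    ∃ (Y : PS C) (u : Y ⟶ X), ARSys.IsStrict Y ∧ ARSys.IsARIso u := by
  refine ⟨fun h => ?_, fun ⟨Y, u, hY, hu⟩ =>
    isMLAR_of_isARIso hu ((isMLAR_iff Y).2 ⟨0, mlb_of_strict hY⟩)⟩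
  obtain ⟨r, hr⟩ := (isMLAR_iff X).1 h
  exact ⟨_, univι hr, isStrict_univSys hr, isARIso_univι hr⟩

theorem isMLAR_iff_isML (X : PS C) : ARSys.IsMLAR X ↔ (ARSys.IsML X ∧
    ∃ (X' : PS C) (ι : X' ⟶ X), Mono ι ∧ (∀ n : ℕ, ∃ r₀ : ℕ, ∀ r : ℕ, r₀ ≤ r →
      imageSubobject (ι.app (op n)) = imageSubobject (ARSys.shiftMap X r n)) ∧
      ARSys.IsARNull (cokernel ι)) := by
  constructor
  · intro h
    obtain ⟨r, hr⟩ := id h
    refine ⟨fun n => ⟨r, fun s hs => hr s hs n⟩, ?_⟩
    obtain ⟨Y, u, -, -⟩ := (isMLAR_iff_exists X).1 h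
    obtain ⟨t, ht⟩ := (isMLAR_iff X).1 h
    refine ⟨_, univι ht, inferInstance, fun n => ⟨t, fun s hs => ?_⟩, (isARIso_univι ht).2⟩
    rw [← rng_eq, ← rng_eq, rng_subι]
    exact le_antisymm (ht n (n + t) (n + s) le_rfl (show n + t ≤ n + s by omega))
      (rng_tr_anti X (Nat.le_add_right n t) (show n + t ≤ n + s by omega))
  · rintro ⟨-, X', ι, -, hιr, hc⟩
    obtain ⟨r, hr⟩ := (isARNull_cokernel_iff ι).1 hc
    refine (isMLAR_iff X).2 ⟨r, fun n m k h h' => ?_⟩
    obtain ⟨r₀, h₀⟩ := hιr n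
    calc rng (tr X ((Nat.le_add_right n r).trans h)) ≤ rng (ι.app (op n)) := hr n m h
      _ = rng (tr X (show n ≤ n + max r₀ (k - n) by omega)) := by
          rw [rng_eq, rng_eq]; exact h₀ _ (le_max_left _ _)
      _ ≤ _ := rng_tr_anti X (show n ≤ k by omega) (by omega)

end Groth.Agent.ARLib
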