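import Groth.Agent.AbJH.Basic
import Mathlib

/-! Calculus of images and preimages of subobjects in abelian categories. -/

set_option autoImplicit false
set_option linter.style.haveILetI false

universe v u

open CategoryTheory CategoryTheory.Limits

namespace Groth.Agent.ARLib

variable {C : Type u} [Category.{v} C] [Abelian C] {X Y Z : C}

/-- The image of a subobject. -/
noncomputable def img (f : X ⟶ Y) (S : Subobject X) : Subobject Y := imageSubobject (S.arrow ≫ f)

/-- The preimage of a subobject. -/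
noncomputable def pre (f : X ⟶ Y) (T : Subobject Y) : Subobject X :=
  (Subobject.pullback f).obj T

/-- The kernel as a preimage of zero. -/
noncomputable abbrev ker (f : X ⟶ Y) : Subobject X := pre f ⊥

/-- The range. -/
noncomputable abbrev rng (f : X ⟶ Y) : Subobject Y := img f ⊤

theorem pre_factors_iff (f : X ⟶ Y) (T : Subobject Y) {W : C} (h : W ⟶ X) :
    (pre f T).Factors h ↔ T.Factors (h ≫ f) :=
  pullback_factors_iff _ _ _

theorem le_of_forall {S T : Subobject X}
    (H : ∀ ⦃W : C⦄ (h : W ⟶ X), S.Factors h → T.Factors h) : S ≤ T :=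
  Subobject.le_of_factors (H _ (Subobject.factors_self S))

theorem ext_factors {S T : Subobject X}
    (H : ∀ ⦃W : C⦄ (h : W ⟶ X), S.Factors h ↔ T.Factors h) : S = T :=
  le_antisymm (le_of_forall fun _ h => (H h).1) (le_of_forall fun _ h => (H h).2)

theorem ker_factors_iff (f : X ⟶ Y) {W : C} (h : W ⟶ X) : (ker f).Factors h ↔ h ≫ f = 0 := by
  rw [pre_factors_iff, Subobject.bot_factors_iff_zero]

theorem kernelSubobject_eq (f : X ⟶ Y) : kernelSubobject f = ker f :=
  ext_factors fun _ h => by rw [kernelSubobject_factors_iff, ker_factors_iff]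

theorem rng_eq (f : X ⟶ Y) : rng f = imageSubobject f := by
  haveI : IsIso (⊤ : Subobject X).arrow := inferInstance
  exact imageSubobject_iso_comp _ _

theorem img_le_iff {f : X ⟶ Y} {S : Subobject X} {T : Subobject Y} :
    img f S ≤ T ↔ S ≤ pre f T := by
  constructor
  · intro h
    refine Subobject.le_of_factors ((pre_factors_iff f T _).2 (Subobject.factors_of_le _ h ?_))
    rw [← imageSubobject_arrow_comp (S.arrow ≫ f)]
    exact Subobject.factors_comp_arrow _
  · intro h
    have hF : T.Factors (S.arrow ≫ f) :=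
      (pre_factors_iff f T _).1 (Subobject.factors_of_le _ h (Subobject.factors_self S))
    exact imageSubobject_le _ (T.factorThru _ hF) (T.factorThru_arrow _ hF)

theorem gc (f : X ⟶ Y) : GaloisConnection (img f) (pre f) := fun _ _ => img_le_iff

theorem img_mono (f : X ⟶ Y) {S S' : Subobject X} (h : S ≤ S') : img f S ≤ img f S' :=
  (gc f).monotone_l h

theorem pre_mono (f : X ⟶ Y) {T T' : Subobject Y} (h : T ≤ T') : pre f T ≤ pre f T' :=
  (gc f).monotone_u h

theorem pre_pre (f : X ⟶ Y) (g : Y ⟶ Z) (T : Subobject Z) : pre f (pre g T) = pre (f ≫ g) T :=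
  ext_factors fun _ h => by simp only [pre_factors_iff, Category.assoc]

theorem img_img (f : X ⟶ Y) (g : Y ⟶ Z) (S : Subobject X) : img g (img f S) = img (f ≫ g) S := by
  refine eq_of_forall_ge_iff fun T => ?_
  rw [img_le_iff, img_le_iff, img_le_iff, pre_pre]

theorem ker_comp (f : X ⟶ Y) (g : Y ⟶ Z) : ker (f ≫ g) = pre f (ker g) := (pre_pre f g ⊥).symm

theorem rng_comp (f : X ⟶ Y) (g : Y ⟶ Z) : rng (f ≫ g) = img g (rng f) := (img_img f g ⊤).symm

theorem pre_id (T : Subobject X) : pre (𝟙 X) T = T :=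
  ext_factors fun _ h => by simp [pre_factors_iff]

theorem img_id (S : Subobject X) : img (𝟙 X) S = S :=
  eq_of_forall_ge_iff fun T => by rw [img_le_iff, pre_id]

theorem img_sup (f : X ⟶ Y) (S S' : Subobject X) : img f (S ⊔ S') = img f S ⊔ img f S' :=
  (gc f).l_sup

theorem img_bot (f : X ⟶ Y) : img f ⊥ = ⊥ := (gc f).l_bot

theorem pre_inf (f : X ⟶ Y) (T T' : Subobject Y) : pre f (T ⊓ T') = pre f T ⊓ pre f T' :=
  (gc f).u_inf

theorem pre_top (f : X ⟶ Y) : pre f ⊤ = ⊤ := (gc f).u_top

theorem ker_le_pre (f : X ⟶ Y) (T : Subobject Y) : ker f ≤ pre f T := pre_mono f bot_le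

theorem img_eq_bot_iff {f : X ⟶ Y} {S : Subobject X} : img f S = ⊥ ↔ S ≤ ker f := by
  rw [← le_bot_iff, img_le_iff]

theorem img_ker (f : X ⟶ Y) : img f (ker f) = ⊥ := img_eq_bot_iff.2 le_rfl

theorem factors_img {f : X ⟶ Y} {S : Subobject X} {W : C} {h : W ⟶ X} (hh : S.Factors h) :
    (img f S).Factors (h ≫ f) :=
  (pre_factors_iff f _ h).1 (Subobject.factors_of_le h ((gc f).le_u_l S) hh)

theorem exists_of_factors_img {f : X ⟶ Y} {S : Subobject X} {W : C} {h : W ⟶ Y}
    (hh : (img f S).Factors h) : ∃ (W' : C) (π : W' ⟶ W) (_ : Epi π) (k : W' ⟶ X),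
      S.Factors k ∧ π ≫ h = k ≫ f := by
  obtain ⟨W', π, hπ, k, hk⟩ := surjective_up_to_refinements_of_epi
    (factorThruImageSubobject (S.arrow ≫ f)) ((imageSubobject (S.arrow ≫ f)).factorThru h hh)
  refine ⟨W', π, hπ, k ≫ S.arrow, Subobject.factors_comp_arrow k, ?_⟩
  rw [← (imageSubobject (S.arrow ≫ f)).factorThru_arrow h hh, reassoc_of% hk,
    imageSubobject_arrow_comp, Category.assoc]

theorem img_pre (f : X ⟶ Y) (T : Subobject Y) : img f (pre f T) = T ⊓ rng f := by
  refine le_antisymm (le_inf ((gc f).l_u_le T) (img_mono f le_top)) (le_of_forall fun W h hh => ?_)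
  obtain ⟨hT, hr⟩ := (Subobject.inf_factors _).1 hh
  obtain ⟨W', π, hπ, k, -, e⟩ := exists_of_factors_img hr
  refine AbJH.factors_of_epi π _ (e ▸ factors_img ((pre_factors_iff f T k).2 ?_))
  rw [← e]
  exact Subobject.factors_of_factors_right _ hT

theorem factors_sub {S : Subobject X} {W : C} {a b : W ⟶ X} (ha : S.Factors a)
    (hb : S.Factors b) : S.Factors (a - b) :=
  (Subobject.factors_iff _ _).2 ⟨S.factorThru a ha - S.factorThru b hb, by
    change (S.factorThru a ha - S.factorThru b hb) ≫ S.arrow = a - b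
    rw [Preadditive.sub_comp, Subobject.factorThru_arrow, Subobject.factorThru_arrow]⟩

theorem pre_img (f : X ⟶ Y) (S : Subobject X) : pre f (img f S) = S ⊔ ker f := by
  refine le_antisymm (le_of_forall fun W h hh => ?_)
    (sup_le ((gc f).le_u_l S) (ker_le_pre f _))
  obtain ⟨W', π, hπ, k, hk, e⟩ := exists_of_factors_img ((pre_factors_iff f _ h).1 hh)
  refine AbJH.factors_of_epi π _ ?_
  rw [show π ≫ h = k + (π ≫ h - k) by abel]
  refine Subobject.factors_add k _ (Subobject.factors_of_le k le_sup_left hk)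
    (Subobject.factors_of_le _ le_sup_right ((ker_factors_iff f _).2 ?_))
  rw [Preadditive.sub_comp, Category.assoc, e, sub_self]

theorem rng_of_epi (f : X ⟶ Y) [Epi f] : rng f = ⊤ := by
  rw [rng_eq]
  haveI : Epi (imageSubobject f).arrow := epi_of_epi_fac (imageSubobject_arrow_comp f)
  haveI := isIso_of_mono_of_epi (imageSubobject f).arrow
  exact Subobject.eq_top_of_isIso_arrow _

theorem epi_iff_rng (f : X ⟶ Y) : Epi f ↔ rng f = ⊤ := by
  refine ⟨fun _ => rng_of_epi f, fun h => ?_⟩
  rw [rng_eq] at h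
  haveI : IsIso (imageSubobject f).arrow := (Subobject.isIso_arrow_iff_eq_top _).2 h
  rw [← imageSubobject_arrow_comp f]
  infer_instance

theorem ker_of_mono (f : X ⟶ Y) [Mono f] : ker f = ⊥ :=
  ext_factors fun _ h => by
    rw [ker_factors_iff, Subobject.bot_factors_iff_zero]
    exact ⟨fun e => by rwa [← cancel_mono f, zero_comp], fun e => by rw [e, zero_comp]⟩

theorem mono_iff_ker (f : X ⟶ Y) : Mono f ↔ ker f = ⊥ := by
  refine ⟨fun _ => ker_of_mono f, fun h => Preadditive.mono_of_cancel_zero f fun {W} g hg => ?_⟩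
  exact (Subobject.bot_factors_iff_zero g).1 (h ▸ (ker_factors_iff f g).2 hg)

theorem img_pre_of_epi (f : X ⟶ Y) [Epi f] (T : Subobject Y) : img f (pre f T) = T := by
  rw [img_pre, rng_of_epi, inf_top_eq]

theorem pre_img_of_mono (f : X ⟶ Y) [Mono f] (S : Subobject X) : pre f (img f S) = S := by
  rw [pre_img, ker_of_mono, sup_bot_eq]

theorem pre_injective (f : X ⟶ Y) [Epi f] : Function.Injective (pre f) := fun T T' h => by
  rw [← img_pre_of_epi f T, h, img_pre_of_epi]

theorem img_injective (f : X ⟶ Y) [Mono f] : Function.Injective (img f) := fun S S' h => by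
  rw [← pre_img_of_mono f S, h, pre_img_of_mono]

theorem ker_zero : ker (0 : X ⟶ Y) = ⊤ :=
  top_le_iff.1 (le_of_forall fun _ h _ => (ker_factors_iff _ _).2 comp_zero)

theorem eq_zero_iff_ker (f : X ⟶ Y) : f = 0 ↔ ker f = ⊤ := by
  refine ⟨fun e => e ▸ ker_zero, fun e => ?_⟩
  simpa using (ker_factors_iff f (𝟙 X)).1 (e ▸ Subobject.top_factors _)

theorem eq_zero_iff_rng (f : X ⟶ Y) : f = 0 ↔ rng f = ⊥ := by
  rw [eq_zero_iff_ker, img_eq_bot_iff, top_le_iff]

theorem img_zero (S : Subobject X) : img (0 : X ⟶ Y) S = ⊥ :=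
  img_eq_bot_iff.2 (le_top.trans (ker_zero (X := X) (Y := Y)).ge)

theorem img_add_le (f g : X ⟶ Y) (S : Subobject X) : img (f + g) S ≤ img f S ⊔ img g S := by
  refine img_le_iff.2 (le_of_forall fun W h hh => (pre_factors_iff _ _ h).2 ?_)
  rw [Preadditive.comp_add]
  exact Subobject.factors_add _ _ (Subobject.factors_of_le _ le_sup_left (factors_img hh))
    (Subobject.factors_of_le _ le_sup_right (factors_img hh))

theorem rng_cokernel_π {f : X ⟶ Y} : ker (cokernel.π f) = rng f := by
  refine le_antisymm (le_of_forall fun W h hh => ?_) ?_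
  · rw [rng_eq]
    obtain ⟨W', π, hπ, k, e⟩ := (ShortComplex.exact_iff_exact_up_to_refinements
      (ShortComplex.mk f (cokernel.π f) (cokernel.condition f))).1
        (ShortComplex.exact_of_g_is_cokernel _ (cokernelIsCokernel f)) h ((ker_factors_iff _ _).1 hh)
    refine AbJH.factors_of_epi π _ ?_
    rw [e]
    exact imageSubobject_factors_comp_self f k
  · exact img_le_iff.2 (by rw [pre_pre, cokernel.condition]; exact ker_zero.ge)

theorem rng_kernel_ι {f : X ⟶ Y} : rng (kernel.ι f) = ker f := by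
  refine le_antisymm (img_le_iff.2 (by rw [pre_pre, kernel.condition]; exact ker_zero.ge))
    (le_of_forall fun W h hh => ?_)
  have e := (ker_factors_iff f h).1 hh
  rw [← kernel.lift_ι f h e]
  exact factors_img (Subobject.top_factors _)

theorem rng_eq_ker {S : ShortComplex C} (h : S.Exact) : rng S.f = ker S.g := by
  refine le_antisymm (img_le_iff.2 (by rw [pre_pre, S.zero]; exact ker_zero.ge))
    (le_of_forall fun W x hx => ?_)
  obtain ⟨W', π, hπ, k, e⟩ := h.exact_up_to_refinements x ((ker_factors_iff _ _).1 hx)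
  exact AbJH.factors_of_epi π _ (e ▸ factors_img (Subobject.top_factors _))

/-- Kernel arrows: the kernel of the arrow of a subobject and its range. -/
theorem rng_arrow (S : Subobject X) : rng S.arrow = S := by
  rw [rng_eq, imageSubobject_mono, Subobject.mk_arrow]

theorem exact_of_ker_le {S : ShortComplex C} (h : ker S.g ≤ rng S.f) : S.Exact := by
  rw [ShortComplex.exact_iff_exact_up_to_refinements]
  intro W x hx
  obtain ⟨W', π, hπ, k, -, e⟩ := exists_of_factors_img
    (Subobject.factors_of_le x h ((ker_factors_iff _ _).2 hx))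
  exact ⟨W', π, hπ, k, e⟩

/-- Factorisation through an epimorphism. -/
theorem exists_desc {W : C} (p : X ⟶ Y) [Epi p] (φ : X ⟶ W) (h : ker p ≤ ker φ) :
    ∃ ψ, p ≫ ψ = φ := by
  refine ⟨Abelian.epiDesc p φ ?_, Abelian.comp_epiDesc _ _ _⟩
  exact (ker_factors_iff φ _).1 (Subobject.factors_of_le _ h
    ((ker_factors_iff p _).2 (kernel.condition p)))

/-- Factorisation through a monomorphism. -/
theorem exists_lift {W : C} (i : X ⟶ Y) [Mono i] (φ : W ⟶ Y) (h : rng φ ≤ rng i) :
    ∃ ψ, ψ ≫ i = φ := by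
  refine ⟨Abelian.monoLift i φ ?_, Abelian.monoLift_comp _ _ _⟩
  rw [eq_zero_iff_rng, rng_comp, img_eq_bot_iff, rng_cokernel_π]
  exact h

/-- Factorisation through the coimage. -/
theorem exists_fac {V W : C} (u : X ⟶ Y) (φ : V ⟶ Y) (ψ : X ⟶ W) (hφ : rng φ ≤ rng u)
    (hψ : ker u ≤ ker ψ) : ∃ v : V ⟶ W, ∀ ⦃T : C⦄ (t : T ⟶ V) (x : T ⟶ X),
      t ≫ φ = x ≫ u → t ≫ v = x ≫ ψ := by
  rw [rng_eq u] at hφ
  have h1 : rng φ ≤ rng (imageSubobject u).arrow := by rwa [rng_arrow]
  obtain ⟨a, ha⟩ := exists_lift (imageSubobject u).arrow φ h1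
  have h2 : ker (factorThruImageSubobject u) ≤ ker ψ := by
    refine le_trans (le_of_eq ?_) hψ
    conv_rhs => rw [← imageSubobject_arrow_comp u, ker_comp, ker_of_mono]
  haveI : Epi (factorThruImageSubobject u) := inferInstance
  obtain ⟨b, hb⟩ := exists_desc (factorThruImageSubobject u) ψ h2
  refine ⟨a ≫ b, fun T t x e => ?_⟩
  have : t ≫ a = x ≫ factorThruImageSubobject u := by
    rw [← cancel_mono (imageSubobject u).arrow, Category.assoc, ha, e, Category.assoc,
      imageSubobject_arrow_comp]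
  rw [reassoc_of% this, hb]

end Groth.Agent.ARLib
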