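import Groth.Agent.ARLib.Sub
import Groth.Prelude.Def_ARSys

/-! Projective systems in an abelian category, isomorphisms up to translation. -/

set_option backward.isDefEq.respectTransparency false
set_option backward.isDefEq.respectTransparency.types false
set_option autoImplicit false
set_option linter.style.haveILetI false

universe v u

open CategoryTheory CategoryTheory.Limits Opposite

namespace Groth.Agent.ARLib

variable {C : Type u} [Category.{v} C]

open ARSys (PS tr)

theorem tr_tr (X : PS C) {a b c : ℕ} (h : a ≤ b) (h' : b ≤ c) :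
    tr X h' ≫ tr X h = tr X (h.trans h') := by
  rw [tr, tr, ← Functor.map_comp]; rfl

theorem tr_tr_assoc (X : PS C) {a b c : ℕ} (h : a ≤ b) (h' : b ≤ c) {Z : C}
    (f : X.obj (op a) ⟶ Z) : tr X h' ≫ tr X h ≫ f = tr X (h.trans h') ≫ f := by
  rw [← Category.assoc, tr_tr]

theorem tr_rfl (X : PS C) (n : ℕ) (h : n ≤ n) : tr X h = 𝟙 _ := X.map_id _

theorem tr_nat {X Y : PS C} (u : X ⟶ Y) {a b : ℕ} (h : a ≤ b) :
    tr X h ≫ u.app (op a) = u.app (op b) ≫ tr Y h :=
  u.naturality (homOfLE h).op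

theorem tr_nat_assoc {X Y : PS C} (u : X ⟶ Y) {a b : ℕ} (h : a ≤ b) {Z : C}
    (f : Y.obj (op a) ⟶ Z) : tr X h ≫ u.app (op a) ≫ f = u.app (op b) ≫ tr Y h ≫ f := by
  rw [← Category.assoc, tr_nat, Category.assoc]

/-- The canonical map from a translate. -/
def shiftNat (X : PS C) (r : ℕ) : (ARSys.shift C r).obj X ⟶ X where
  app n := ARSys.shiftMap X r n.unop
  naturality n m f := by
    change X.map ((ARSys.addF r).op.map f) ≫ _ = _ ≫ X.map f
    dsimp only [ARSys.shiftMap, tr]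
    erw [← Functor.map_comp, ← Functor.map_comp]
    rfl

/-- A morphism defined after translation by at least `r`. -/
structure SHom (r : ℕ) (X Y : PS C) where
  app : ∀ (n m : ℕ), n + r ≤ m → (X.obj (op m) ⟶ Y.obj (op n))
  pre : ∀ (n m k : ℕ) (h : n + r ≤ m) (h' : m ≤ k),
    tr X h' ≫ app n m h = app n k (h.trans h')
  post : ∀ (n l m : ℕ) (hl : n ≤ l) (h : l + r ≤ m) (h' : n + r ≤ m),
    app l m h ≫ tr Y hl = app n m h'

namespace SHom

variable {X Y Z : PS C} {r t : ℕ}

theorem pre_assoc (f : SHom r X Y) (n m k : ℕ) (h : n + r ≤ m) (h' : m ≤ k) {W : C}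
    (g : Y.obj (op n) ⟶ W) : tr X h' ≫ f.app n m h ≫ g = f.app n k (h.trans h') ≫ g := by
  rw [← Category.assoc, f.pre]

theorem post_assoc (f : SHom r X Y) (n l m : ℕ) (hl : n ≤ l) (h : l + r ≤ m) (h' : n + r ≤ m)
    {W : C} (g : Y.obj (op n) ⟶ W) : f.app l m h ≫ tr Y hl ≫ g = f.app n m h' ≫ g := by
  rw [← Category.assoc, f.post n l m hl h h']

/-- Translation. -/
def trS (r : ℕ) (X : PS C) : SHom r X X where
  app n _ h := tr X ((Nat.le_add_right n r).trans h)
  pre _ _ _ _ _ := tr_tr X _ _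
  post _ _ _ _ _ _ := tr_tr X _ _

/-- A morphism as a translated morphism. -/
def ofHom (f : X ⟶ Y) (r : ℕ) : SHom r X Y where
  app n _ h := tr X ((Nat.le_add_right n r).trans h) ≫ f.app (op n)
  pre _ _ _ _ _ := by rw [tr_tr_assoc]
  post _ _ _ _ _ _ := by rw [Category.assoc, ← tr_nat, tr_tr_assoc]

/-- A morphism out of a translate as a translated morphism. -/
def ofShift (f : (ARSys.shift C r).obj X ⟶ Y) : SHom r X Y where
  app n _ h := tr X h ≫ f.app (op n)
  pre _ _ _ _ _ := tr_tr_assoc X _ _ _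
  post n l m hl h h' := by
    have e : f.app (op l) ≫ tr Y hl = tr X (Nat.add_le_add_right hl r) ≫ f.app (op n) :=
      (f.naturality (homOfLE hl).op).symm
    rw [Category.assoc, e, tr_tr_assoc]

/-- Composition. -/
def comp (f : SHom r X Y) (g : SHom t Y Z) : SHom (t + r) X Z where
  app n m h := f.app (n + t) m (by omega) ≫ g.app n (n + t) le_rfl
  pre n m k h h' := f.pre_assoc _ _ _ _ _ _
  post n l m hl h h' := by
    rw [Category.assoc, g.post n l (l + t) hl le_rfl (by omega),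
      ← g.pre n (n + t) (l + t) le_rfl (by omega),
      f.post_assoc _ _ _ _ _ (by omega : n + t + r ≤ m)]

theorem comp_app (f : SHom r X Y) (g : SHom t Y Z) {n k m : ℕ} (h : n + t ≤ k)
    (h' : k + r ≤ m) (h'' : n + (t + r) ≤ m) :
    (f.comp g).app n m h'' = f.app k m h' ≫ g.app n k h := by
  change f.app (n + t) m _ ≫ g.app n (n + t) le_rfl = _
  rw [← g.pre n (n + t) k le_rfl h, f.post_assoc]

end SHom

variable [Abelian C]

theorem ker_tr_mono (X : PS C) {a b m : ℕ} (h : a ≤ b) (h' : b ≤ m) :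
    ker (tr X h') ≤ ker (tr X (h.trans h')) := by
  rw [← tr_tr X h h', ker_comp]; exact ker_le_pre _ _

theorem rng_tr_anti (X : PS C) {n a b : ℕ} (h : n ≤ a) (h' : a ≤ b) :
    rng (tr X (h.trans h')) ≤ rng (tr X h) := by
  rw [← tr_tr X h h', rng_comp]; exact img_mono _ le_top

theorem img_tr_ker {X Y : PS C} (u : X ⟶ Y) {a b : ℕ} (h : a ≤ b) :
    img (tr X h) (ker (u.app (op b))) ≤ ker (u.app (op a)) := by
  rw [img_le_iff, ← ker_comp, tr_nat, ker_comp]; exact ker_le_pre _ _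

theorem img_tr_rng {X Y : PS C} (u : X ⟶ Y) {a b : ℕ} (h : a ≤ b) :
    img (tr Y h) (rng (u.app (op b))) ≤ rng (u.app (op a)) := by
  rw [← rng_comp, ← tr_nat, rng_comp]; exact img_mono _ le_top

section Exact

variable {X Y : PS C}

set_option maxHeartbeats 1000000 in
theorem exact_app {S : ShortComplex (PS C)} (hS : S.Exact) (n : ℕᵒᵖ) :
    rng (S.f.app n) = ker (S.g.app n) := by
  haveI : PreservesFiniteLimits ((evaluation ℕᵒᵖ C).obj n) := ⟨fun J _ _ => inferInstance⟩
  haveI : PreservesFiniteColimits ((evaluation ℕᵒᵖ C).obj n) := ⟨fun J _ _ => inferInstance⟩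
  exact rng_eq_ker (hS.map ((evaluation ℕᵒᵖ C).obj n))

theorem mono_app {X Y : PS C} (f : X ⟶ Y) [Mono f] (n : ℕᵒᵖ) : Mono (f.app n) :=
  inferInstanceAs (Mono (((evaluation ℕᵒᵖ C).obj n).map f))

theorem epi_app {X Y : PS C} (f : X ⟶ Y) [Epi f] (n : ℕᵒᵖ) : Epi (f.app n) :=
  inferInstanceAs (Epi (((evaluation ℕᵒᵖ C).obj n).map f))

theorem rng_kernel_app (u : X ⟶ Y) (n : ℕᵒᵖ) : rng ((kernel.ι u).app n) = ker (u.app n) :=
  exact_app (ShortComplex.exact_of_f_is_kernel
    (ShortComplex.mk _ _ (kernel.condition u)) (kernelIsKernel u)) n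

theorem ker_cokernel_app (u : X ⟶ Y) (n : ℕᵒᵖ) : ker ((cokernel.π u).app n) = rng (u.app n) :=
  (exact_app (ShortComplex.exact_of_g_is_cokernel
    (ShortComplex.mk _ _ (cokernel.condition u)) (cokernelIsCokernel u)) n).symm

theorem isARNull_iff (K : PS C) : ARSys.IsARNull K ↔
    ∃ r, ∀ n m (h : n + r ≤ m), tr K ((Nat.le_add_right n r).trans h) = 0 := by
  refine ⟨fun ⟨r, hr⟩ => ⟨r, fun n m h => ?_⟩, fun ⟨r, hr⟩ => ⟨r, fun n => hr n _ le_rfl⟩⟩
  rw [← tr_tr K (Nat.le_add_right n r) h]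
  exact (congrArg (tr K h ≫ ·) (hr n)).trans comp_zero

theorem isARNull_kernel_iff (u : X ⟶ Y) : ARSys.IsARNull (kernel u) ↔
    ∃ r, ∀ n m (h : n + r ≤ m),
      ker (u.app (op m)) ≤ ker (tr X ((Nat.le_add_right n r).trans h)) := by
  rw [isARNull_iff]
  refine exists_congr fun r => forall₃_congr fun n m h => ?_
  haveI := mono_app (kernel.ι u) (op n)
  rw [← rng_kernel_app, ← img_eq_bot_iff, ← rng_comp, ← tr_nat, ← eq_zero_iff_rng]
  exact ⟨fun e => by rw [e, zero_comp], fun e => by rwa [← cancel_mono ((kernel.ι u).app (op n)), zero_comp]⟩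

theorem isARNull_cokernel_iff (u : X ⟶ Y) : ARSys.IsARNull (cokernel u) ↔
    ∃ r, ∀ n m (h : n + r ≤ m),
      rng (tr Y ((Nat.le_add_right n r).trans h)) ≤ rng (u.app (op n)) := by
  rw [isARNull_iff]
  refine exists_congr fun r => forall₃_congr fun n m h => ?_
  haveI := epi_app (cokernel.π u) (op m)
  rw [← ker_cokernel_app u (op n), ← img_eq_bot_iff, ← rng_comp, tr_nat, ← eq_zero_iff_rng]
  exact ⟨fun e => by rw [e, comp_zero], fun e => by rwa [← cancel_epi ((cokernel.π u).app (op m)), comp_zero]⟩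

theorem isARIso_iff (u : X ⟶ Y) : ARSys.IsARIso u ↔ ∃ r, ∀ n m (h : n + r ≤ m),
    ker (u.app (op m)) ≤ ker (tr X ((Nat.le_add_right n r).trans h)) ∧
      rng (tr Y ((Nat.le_add_right n r).trans h)) ≤ rng (u.app (op n)) := by
  rw [ARSys.IsARIso, isARNull_kernel_iff, isARNull_cokernel_iff]
  refine ⟨fun ⟨⟨r, hr⟩, ⟨t, ht⟩⟩ => ⟨max r t, fun n m h => ?_⟩,
    fun ⟨r, hr⟩ => ⟨⟨r, fun n m h => (hr n m h).1⟩, ⟨r, fun n m h => (hr n m h).2⟩⟩⟩
  exact ⟨hr n m (by omega), ht n m (by omega)⟩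

/-- A two-sided inverse up to translation. -/
structure Inv {r : ℕ} (u : X ⟶ Y) (v : SHom r Y X) : Prop where
  uv : ∀ n m (h : n + r ≤ m), u.app (op m) ≫ v.app n m h = tr X ((Nat.le_add_right n r).trans h)
  vu : ∀ n m (h : n + r ≤ m), v.app n m h ≫ u.app (op n) = tr Y ((Nat.le_add_right n r).trans h)

theorem Inv.isARIso {r : ℕ} {u : X ⟶ Y} {v : SHom r Y X} (H : Inv u v) : ARSys.IsARIso u :=
  (isARIso_iff u).2 ⟨r, fun n m h =>
    ⟨by rw [← H.uv n m h, ker_comp]; exact ker_le_pre _ _,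
     by rw [← H.vu n m h, rng_comp]; exact img_mono _ le_top⟩⟩

theorem exists_inv {u : X ⟶ Y} (hu : ARSys.IsARIso u) :
    ∃ (r : ℕ) (v : SHom r Y X), Inv u v := by
  obtain ⟨t, ht⟩ := (isARIso_iff u).1 hu
  refine ⟨t + t, ?_⟩
  have hex : ∀ (n m : ℕ) (h : n + (t + t) ≤ m), ∃ w : Y.obj (op m) ⟶ X.obj (op n),
      ∀ ⦃T : C⦄ (a : T ⟶ Y.obj (op m)) (x : T ⟶ X.obj (op (n + t))),
        a ≫ tr Y (show n + t ≤ m by omega) = x ≫ u.app (op (n + t)) →
          a ≫ w = x ≫ tr X (Nat.le_add_right n t) := fun n m h =>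
    exists_fac _ _ _ (ht (n + t) m (by omega)).2 (ht n (n + t) le_rfl).1
  have href : ∀ (n m : ℕ) (_ : n + (t + t) ≤ m), ∃ (T : C) (π : T ⟶ Y.obj (op m)) (_ : Epi π)
      (x : T ⟶ X.obj (op (n + t))),
        π ≫ tr Y (show n + t ≤ m by omega) = x ≫ u.app (op (n + t)) := fun n m h => by
    obtain ⟨T, π, hπ, x, -, e⟩ := exists_of_factors_img (Subobject.factors_of_le _
      (ht (n + t) m (by omega)).2 (factors_img (f := tr Y (show n + t ≤ m by omega))
        (Subobject.top_factors (𝟙 (Y.obj (op m))))))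
    exact ⟨T, π, hπ, x, by rw [← e, Category.id_comp]⟩
  choose w hw using hex
  refine ⟨⟨w, fun n m k h h' => ?_, fun n l m hl h h' => ?_⟩, ⟨fun n m h => ?_, fun n m h => ?_⟩⟩
  · obtain ⟨T, π, hπ, x, e⟩ := href n k (h.trans h')
    rw [← cancel_epi π, hw n k (h.trans h') π x e]
    refine (Category.assoc _ _ _).symm.trans (hw n m h _ x ?_)
    rw [Category.assoc, tr_tr, e]
  · obtain ⟨T, π, hπ, x, e⟩ := href l m h
    rw [← cancel_epi π, reassoc_of% (hw l m h π x e), tr_tr,
      hw n m h' π (x ≫ tr X (Nat.add_le_add_right hl t)) ?_, Category.assoc, tr_tr]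
    rw [Category.assoc, tr_nat, ← reassoc_of% e, tr_tr]
  · refine (hw n m h (u.app (op m)) (tr X (show n + t ≤ m by omega))
      (tr_nat u _).symm).trans (tr_tr X _ _)
  · obtain ⟨T, π, hπ, x, e⟩ := href n m h
    change w n m h ≫ u.app (op n) = _
    rw [← cancel_epi π, reassoc_of% (hw n m h π x e), tr_nat, ← reassoc_of% e, tr_tr]

theorem isARIso_comp {Z : PS C} {u : X ⟶ Y} {w : Y ⟶ Z} (hu : ARSys.IsARIso u)
    (hw : ARSys.IsARIso w) : ARSys.IsARIso (u ≫ w) := by
  obtain ⟨r, v, hv⟩ := exists_inv hu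
  obtain ⟨t, v', hv'⟩ := exists_inv hw
  refine Inv.isARIso (v := v'.comp v) ⟨fun n m h => ?_, fun n m h => ?_⟩
  · rw [SHom.comp_app v' v (k := n + r) le_rfl (by omega), NatTrans.comp_app, Category.assoc,
      ← Category.assoc (w.app _), hv'.uv, ← Category.assoc, ← tr_nat, Category.assoc, hv.uv,
      tr_tr]
  · rw [SHom.comp_app v' v (k := n + r) le_rfl (by omega), NatTrans.comp_app, Category.assoc,
      ← Category.assoc (v.app _ _ _), hv.vu, tr_nat, ← Category.assoc, hv'.vu, tr_tr]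

theorem isARIso_of_comp_left {Z : PS C} {u : X ⟶ Y} {w : Y ⟶ Z} (hu : ARSys.IsARIso u)
    (huw : ARSys.IsARIso (u ≫ w)) : ARSys.IsARIso w := by
  obtain ⟨r, v, hv⟩ := exists_inv hu
  obtain ⟨t, c, hc⟩ := exists_inv huw
  refine Inv.isARIso (v := (SHom.trS r Z).comp (c.comp (SHom.ofHom u 0))) ⟨fun n m h => ?_, fun n m h => ?_⟩
  · rw [SHom.comp_app (SHom.trS r Z) (c.comp (SHom.ofHom u 0)) (k := n + t) (by omega) (by omega),
      SHom.comp_app c (SHom.ofHom u 0) (k := n) (by omega) (by omega)]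
    simp only [SHom.trS, SHom.ofHom, tr_rfl, Category.id_comp]
    rw [← Category.assoc, ← tr_nat, ← hv.vu (n + t) m (by omega)]
    simp only [Category.assoc]
    rw [← Category.assoc (u.app _) (w.app _), ← NatTrans.comp_app, ← Category.assoc ((u ≫ w).app _),
      hc.uv, tr_nat, ← Category.assoc, hv.vu, tr_tr]
  · rw [SHom.comp_app (SHom.trS r Z) (c.comp (SHom.ofHom u 0)) (k := n + t) (by omega) (by omega),
      SHom.comp_app c (SHom.ofHom u 0) (k := n) (by omega) (by omega)]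
    simp only [SHom.trS, SHom.ofHom, tr_rfl, Category.id_comp, Category.assoc]
    rw [← NatTrans.comp_app, hc.vu, tr_tr]

end Exact

section SubSys

variable (X : PS C) (S : ∀ n : ℕ, Subobject (X.obj (op n)))
  (hS : ∀ n m (h : n ≤ m), img (tr X h) (S m) ≤ S n)

include hS in
theorem subSys_factors {n m : ℕᵒᵖ} (f : n ⟶ m) :
    (S m.unop).Factors ((S n.unop).arrow ≫ X.map f) :=
  Subobject.factors_of_le _ (hS m.unop n.unop f.unop.le)
    (factors_img (Subobject.factors_self _))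

/-- A family of subobjects stable under the transition maps, as a system. -/
noncomputable def subSys : PS C where
  obj n := (S n.unop : C)
  map {n m} f := (S m.unop).factorThru _ (subSys_factors X S hS f)
  map_id n := by
    rw [← cancel_mono (S n.unop).arrow]
    simp
  map_comp {n m k} f g := by
    rw [← cancel_mono (S k.unop).arrow]
    simp

/-- The inclusion of a subsystem. -/
noncomputable def subι : subSys X S hS ⟶ X where
  app n := (S n.unop).arrow
  naturality _ _ f := Subobject.factorThru_arrow _ _ (subSys_factors X S hS f)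

instance mono_subι (n : ℕᵒᵖ) : Mono ((subι X S hS).app n) := by
  change Mono (S n.unop).arrow
  infer_instance

instance : Mono (subι X S hS) := NatTrans.mono_of_mono_app _

theorem rng_subι (n : ℕ) : rng ((subι X S hS).app (op n)) = S n := rng_arrow (S n)

theorem ker_tr_subSys {n m : ℕ} (h : n ≤ m) :
    ker (tr (subSys X S hS) h) = pre ((subι X S hS).app (op m)) (ker (tr X h)) := by
  rw [← ker_comp, ← tr_nat (subι X S hS) h, ker_comp]
  exact congrArg (pre _) (ker_of_mono ((subι X S hS).app (op n))).symm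

end SubSys

/-- A strict system has surjective transition maps on ranges. -/
theorem isStrict_iff (X : PS C) :
    ARSys.IsStrict X ↔ ∀ n m (h : n ≤ m), rng (tr X h) = ⊤ :=
  forall₃_congr fun _ _ _ => epi_iff_rng _

end Groth.Agent.ARLib
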